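import Groth.Agent.Lib.PointLim24.Connected
import Groth.Agent.Lib.LocAcyc24.Rel

/-!
# Connected schemes and sections of constant sheaves
-/

set_option autoImplicit false
set_option linter.style.haveILetI false
set_option linter.unusedSectionVars false
set_option backward.isDefEq.respectTransparency false
set_option backward.isDefEq.respectTransparency.types false

universe u

open CategoryTheory CategoryTheory.Limits AlgebraicGeometry Opposite

namespace Groth.Agent.PointLim24

open Groth.Agent.EtStalk Groth.Agent.LocConst24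

variable {Q : Scheme.{u}}

/-- Glueing over a disjoint family of open subschemes. -/
theorem exists_glue_opens {ι : Type} (U : ι → Q.Opens) (hdisj : ∀ j k, j ≠ k → Disjoint (U j : Set Q) (U k))
    (hcov : ∀ x : Q, ∃ k, x ∈ U k) (F : EtCoh.Ab Q)
    (t : ∀ k, F.obj.obj (op (Scheme.Etale.mk (U k).ι : Q.Etale))) :
    ∃ s : F.obj.obj (op (EtCoh.top Q)), ∀ k,
      F.obj.map (MorphismProperty.Over.homMk (U k).ι (Category.comp_id _) :
        (Scheme.Etale.mk (U k).ι : Q.Etale) ⟶ EtCoh.top Q).op s = t k := by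
  let W : ι → Q.Etale := fun k => Scheme.Etale.mk (U k).ι
  let top : ∀ k, W k ⟶ EtCoh.top Q := fun k => MorphismProperty.Over.homMk (U k).ι (Category.comp_id _)
  have hmem : ∀ k (y : (W k).left), (top k).left y ∈ (U k : Set Q) := fun k y => by
    show (U k).ι y ∈ _
    exact y.2
  have hcovs : Sieve.generate (Presieve.ofArrows W top) ∈ Scheme.smallEtaleTopology _ (EtCoh.top Q) := by
    rw [EtSite.mem_et_iff]
    intro p
    obtain ⟨k, hk⟩ := hcov p
    exact ⟨_, top k, ⟨p, hk⟩, Sieve.le_generate _ _ _ (Presieve.ofArrows.mk k), rfl⟩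
  have hsh := (Presieve.isSheafFor_iff_generate _).2
    (((isSheaf_iff_isSheaf_of_type _ _).1
      ((Presheaf.isSheaf_iff_isSheaf_forget _ F.obj (forget _)).1 F.property)) _ hcovs)
  rw [Presieve.isSheafFor_arrows_iff] at hsh
  obtain ⟨x, hx, -⟩ := hsh t fun j k Z gj gk h => by
    by_cases hjk : j = k
    · subst hjk
      haveI : Mono (top j) := by
        haveI : Mono (top j).left := inferInstanceAs (Mono (U j).ι)
        exact (MorphismProperty.Over.forget _ _ _).mono_of_mono_map
          ((Over.forget _).mono_of_mono_map (inferInstanceAs (Mono (top j).left)))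
      rw [(cancel_mono (top j)).1 h]
    · have : IsEmpty Z.left := ⟨fun z => by
        have e : (top j).left (gj.left z) = (top k).left (gk.left z) :=
          congrArg (fun q : Z ⟶ EtCoh.top _ => q.left z) h
        exact Set.disjoint_left.1 (hdisj j k hjk) (hmem j _) (e ▸ hmem k _)⟩
      exact eq_of_agree F fun z => isEmptyElim z
  exact ⟨x, hx⟩

/-- A scheme whose constant sheaf has the sections of a point is connected. -/
theorem connected_of_H0' (n : ℕ) (hn : 1 < n)
    (h0 : Nonempty (EtCoh.H Q (EtCoh.const Q (ZMod n)) 0 ≃+ ZMod n)) :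
    Nonempty Q ∧ PreconnectedSpace Q := by
  refine ⟨LocAcyc24.nonempty_of_H_zero_ne hn h0, preconnectedSpace_iff_clopen.2 fun s hs => ?_⟩
  by_contra hne
  push Not at hne
  haveI : Fact (1 < n) := ⟨hn⟩
  haveI : NeZero n := ⟨by omega⟩
  let F := EtCoh.const Q (ZMod n)
  obtain ⟨eH⟩ := h0
  let eS : F.obj.obj (op (EtCoh.top Q)) ≃ ZMod n := (H0Sec Q F).symm.trans eH.toEquiv
  let U : Fin 2 → Q.Opens := ![⟨s, hs.2⟩, ⟨sᶜ, hs.1.isOpen_compl⟩]
  have hdisj : ∀ j k, j ≠ k → Disjoint (U j : Set Q) (U k) := fun j k hjk => by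
    fin_cases j <;> fin_cases k
    · exact absurd rfl hjk
    · exact disjoint_compl_right
    · exact disjoint_compl_left
    · exact absurd rfl hjk
  have hcov : ∀ x : Q, ∃ k, x ∈ U k := fun x => by
    by_cases hx : x ∈ s
    · exact ⟨0, hx⟩
    · exact ⟨1, hx⟩
  choose glue hglue using fun a : Fin 2 → ZMod n =>
    exists_glue_opens U hdisj hcov F fun k => constSec Q (ZMod n) _ (a k)
  have hne' : ∀ k, ∃ x, x ∈ U k := fun k => by
    fin_cases k
    · exact hne.1
    · exact (Set.ne_univ_iff_exists_notMem _).1 hne.2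
  have hinj : Function.Injective glue := fun a b hab => funext fun k => by
    obtain ⟨x, hx⟩ := hne' k
    obtain ⟨φ, -⟩ := exists_fib (Scheme.Etale.mk (U k).ι : Q.Etale) (show ↥(U k).toScheme from ⟨x, hx⟩)
    exact (bijAt_constSec Q (ZMod n) _ _ _ φ).1
      (congrArg (germ _ F φ) (((hglue a k).symm.trans (congrArg (F.obj.map _) hab)).trans (hglue b k)))
  haveI : Finite (F.obj.obj (op (EtCoh.top Q))) := Finite.of_equiv _ eS.symm
  have hc := Nat.card_le_card_of_injective glue hinj
  rw [Nat.card_congr eS, Nat.card_zmod, Nat.card_fun, Nat.card_zmod, Nat.card_fin] at hc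
  nlinarith [hc]

/-- Sections of a sheaf with constant germs on a connected scheme are constants. -/
theorem bijective_const_of_connected [Nonempty Q] [PreconnectedSpace Q] (G : EtCoh.Ab Q) {M : Type*}
    (c : M → G.obj.obj (op (EtCoh.top Q)))
    (hc : ∀ (Ω : Type u) [Field Ω] [IsSepClosed Ω] (ξ : Spec (CommRingCat.of Ω) ⟶ Q)
      (v : fib ξ (EtCoh.top Q)), Function.Bijective fun z => germ ξ G v (c z)) :
    Function.Bijective c := by
  classical
  have hu : ∀ (σ : G.obj.obj (op (EtCoh.top Q))) (x : (EtCoh.top Q).left), ∃! z, x ∈ agree G σ (c z) := fun σ x => by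
    obtain ⟨φ, hφ⟩ := exists_fib (EtCoh.top Q) x
    have hφ' : fibPt φ = x := hφ
    obtain ⟨z, hz, hu⟩ := (hc _ _ φ).existsUnique (germ _ G φ σ)
    refine ⟨z, hφ' ▸ (mem_agree_iff_germ _ φ _ _).2 hz.symm, fun y hy => hu y ?_⟩
    exact ((mem_agree_iff_germ _ φ _ _).1 (hφ'.symm ▸ hy)).symm
  obtain ⟨x₀⟩ := ‹Nonempty Q›
  refine ⟨fun a b hab => (hu (c a) x₀).unique (agree_self G _ _) (hab ▸ agree_self G _ _), fun σ => ?_⟩
  obtain ⟨z, hz, -⟩ := hu σ x₀
  let A : Set Q := agree G σ (c z)
  have hcompl : Aᶜ = ⋃ y ∈ ({z}ᶜ : Set M), (agree G σ (c y) : Set Q) := by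
    ext x
    simp only [Set.mem_compl_iff, Set.mem_iUnion, Set.mem_singleton_iff, exists_prop]
    obtain ⟨y, hy, hu'⟩ := hu σ x
    exact ⟨fun h => ⟨y, fun hyz => h (show x ∈ agree G σ (c z) from hyz ▸ hy), hy⟩, fun ⟨y', hy', hx⟩ h => hy' ((hu' y' hx).trans (hu' z h).symm)⟩
  have hA : IsClopen A := ⟨⟨hcompl ▸ isOpen_biUnion fun y _ => isOpen_agree _ _ _⟩, isOpen_agree _ _ _⟩
  have huniv := hA.eq_univ ⟨x₀, hz⟩
  exact ⟨z, (eq_of_agree G fun x => huniv.ge (Set.mem_univ x)).symm⟩

end Groth.Agent.PointLim24
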