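import Groth.Agent.Lib.PointLim24.Acyclic
import Groth.Agent.Lib.StrictLim24.Section
import Mathlib.AlgebraicGeometry.Morphisms.QuasiCompact

/-!
# Pulling back constant sections along a morphism with connected fibres
-/

set_option autoImplicit false
set_option linter.style.haveILetI false
set_option linter.unusedSectionVars false
set_option backward.isDefEq.respectTransparency false
set_option backward.isDefEq.respectTransparency.types false

universe u

open CategoryTheory CategoryTheory.Limits AlgebraicGeometry Opposite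

namespace Groth.Agent.PointLim24

open Groth.Agent.EtStalk Groth.Agent.StrictLim24

variable {K B : Type u} [Field K] [CommRing B] [Algebra K B]

/-- Points of a locally constant spectrum are separated by idempotents. -/
theorem IsSplit.exists_separate (hB : IsSplit K B) {p q : PrimeSpectrum B} (h : p ≠ q) :
    ∃ e : B, IsIdempotentElem e ∧ e ∉ p.asIdeal ∧ e ∈ q.asIdeal := by
  obtain ⟨x, hx⟩ : ∃ x, ¬(x ∈ p.asIdeal ↔ x ∈ q.asIdeal) := by
    by_contra hne
    push Not at hne
    exact h (PrimeSpectrum.ext (Ideal.ext hne))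
  obtain ⟨e, c, he, hep, hec⟩ := hB x p.asIdeal p.isPrime
  haveI := p.isPrime
  haveI := q.isPrime
  refine ⟨e, he, hep, ?_⟩
  by_cases hxp : x ∈ p.asIdeal
  · have hc : c = 0 := const_eq_zero p.asIdeal
      ((p.isPrime.mem_or_mem (hec ▸ p.asIdeal.mul_mem_left e hxp)).resolve_left hep)
    rw [hc, map_zero, mul_zero] at hec
    exact (q.isPrime.mem_or_mem (hec ▸ q.asIdeal.zero_mem)).resolve_right fun hxq => hx (iff_of_true hxp hxq)
  · by_contra heq
    have hxq : x ∈ q.asIdeal := by
      by_contra hxq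
      exact hx (iff_of_false hxp hxq)
    have hc : c = 0 := const_eq_zero q.asIdeal
      ((q.isPrime.mem_or_mem (hec ▸ q.asIdeal.mul_mem_left e hxq)).resolve_left heq)
    rw [hc, map_zero, mul_zero] at hec
    exact (p.isPrime.mem_or_mem (hec ▸ p.asIdeal.zero_mem)).elim hep hxp

variable {A Z : Scheme.{u}} (m : Z ⟶ A) (G : EtCoh.Ab A)

/-- Agreement of pulled back global sections. -/
theorem mem_agree_sec (s t : G.obj.obj (op (EtCoh.top A))) (z : Z) :
    z ∈ agree ((EtCoh.pull m).obj G) (sec m G (EtCoh.top A) m (Category.comp_id m) s)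
        (sec m G (EtCoh.top A) m (Category.comp_id m) t) ↔ m z ∈ agree G s t := by
  rw [sec_apply, sec_apply]
  refine (mem_agree_map _ _ _ _ (show (EtCoh.top Z).left from z)).trans ((mem_agree_unit m G _ _ _).trans ?_)
  have h := congrArg (fun r : Z ⟶ (EtCoh.top A).left => r z)
    (topLift_fst m (EtCoh.top A) m (Category.comp_id m))
  exact iff_of_eq (congrArg (· ∈ agree G s t) h)

variable {M : Type*} (c : M → G.obj.obj (op (EtCoh.top A)))

/-- The constants stay bijective on germs after pulling back. -/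
theorem bijective_germ_sec {Ω : Type u} [Field Ω] [IsSepClosed Ω] (ξ : Spec (CommRingCat.of Ω) ⟶ Z)
    (φ : fib ξ (EtCoh.top Z))
    (hc : ∀ v : fib (ξ ≫ m) (EtCoh.top A), Function.Bijective fun x => germ (ξ ≫ m) G v (c x)) :
    Function.Bijective fun x => germ ξ ((EtCoh.pull m).obj G) φ
      (sec m G (EtCoh.top A) m (Category.comp_id m) (c x)) := by
  let g := topLift m (EtCoh.top A) m (Category.comp_id m)
  let ψ := (Scheme.pointSmallEtale ξ).fiber.map g φ
  let v := dropFib m ξ ψ
  have hl : ψ = liftFib m ξ v := (((fiberIso m ξ).app (EtCoh.top A)).toEquiv.apply_symm_apply ψ).symm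
  have h : ∀ x, germ ξ ((EtCoh.pull m).obj G) φ (sec m G (EtCoh.top A) m (Category.comp_id m) (c x)) =
      stalkPull m ξ G (germ (ξ ≫ m) G v (c x)) := fun x => by
    rw [sec_apply]
    refine (germ_map ξ ((EtCoh.pull m).obj G) g φ _).trans ?_
    refine (congrArg (fun r => germ ξ ((EtCoh.pull m).obj G) r _) hl).trans ?_
    exact (germ_stalkPull m ξ G v (c x)).symm
  rw [funext h]
  exact (ConcreteCategory.bijective_of_isIso (stalkPull m ξ G)).comp (hc v)

variable (hc : ∀ (Ω : Type u) [Field Ω] [IsSepClosed Ω] (ξ : Spec (CommRingCat.of Ω) ⟶ A)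
    (v : fib ξ (EtCoh.top A)), Function.Bijective fun x => germ ξ G v (c x))

include hc in
/-- Every pulled back section is near every point a unique constant. -/
theorem existsUnique_agree (σ : ((EtCoh.pull m).obj G).obj.obj (op (EtCoh.top Z))) (z : Z) :
    ∃! x, z ∈ agree ((EtCoh.pull m).obj G) σ (sec m G (EtCoh.top A) m (Category.comp_id m) (c x)) := by
  obtain ⟨φ, hφ⟩ := exists_fib (EtCoh.top Z) (show (EtCoh.top Z).left from z)
  have hφ' : fibPt φ = z := hφ
  obtain ⟨x, hx, hu⟩ := (bijective_germ_sec m G c _ φ fun v => hc _ _ v).existsUnique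
    (germ _ ((EtCoh.pull m).obj G) φ σ)
  refine ⟨x, hφ' ▸ (mem_agree_iff_germ _ φ _ _).2 hx.symm, fun y hy => hu y ?_⟩
  exact ((mem_agree_iff_germ _ φ _ _).1 (hφ'.symm ▸ hy)).symm

end Groth.Agent.PointLim24

namespace Groth.Agent.PointLim24

open Groth.Agent.EtStalk Groth.Agent.StrictLim24

variable {K B : Type u} [Field K] [CommRing B] [Algebra K B] (hB : IsSplit K B) {Z : Scheme.{u}}
  (m : Z ⟶ Spec (CommRingCat.of B)) [QuasiCompact m] (G : EtCoh.Ab (Spec (CommRingCat.of B)))
  {M : Type*} (c : M → G.obj.obj (op (EtCoh.top (Spec (CommRingCat.of B)))))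
  (hc : ∀ (Ω : Type u) [Field Ω] [IsSepClosed Ω] (ξ : Spec (CommRingCat.of Ω) ⟶ Spec (CommRingCat.of B))
    (v : fib ξ (EtCoh.top (Spec (CommRingCat.of B)))), Function.Bijective fun x => germ ξ G v (c x))
  (hsurj : Function.Surjective m) (hconn : ∀ a, _root_.IsPreconnected (m ⁻¹' {a}))

include hB hc hsurj hconn in
/-- Near every point of the base a pulled back section is a single constant. -/
theorem exists_nhd_agree (σ : ((EtCoh.pull m).obj G).obj.obj (op (EtCoh.top Z))) (a : PrimeSpectrum B) :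
    ∃ (e : B) (x : M), IsIdempotentElem e ∧ e ∉ a.asIdeal ∧ ∀ z : Z,
      (show PrimeSpectrum B from m z) ∈ PrimeSpectrum.basicOpen e →
        z ∈ agree ((EtCoh.pull m).obj G) σ (sec m G (EtCoh.top _) m (Category.comp_id m) (c x)) := by
  classical
  let Ax : M → Set Z := fun x =>
    agree ((EtCoh.pull m).obj G) σ (sec m G (EtCoh.top _) m (Category.comp_id m) (c x))
  have hu := existsUnique_agree m G c hc σ
  obtain ⟨z₀, hz₀⟩ := hsurj a
  obtain ⟨x, hx, -⟩ := hu z₀
  have hcompl : (Ax x)ᶜ = ⋃ y ∈ ({x}ᶜ : Set M), Ax y := by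
    ext z
    simp only [Set.mem_compl_iff, Set.mem_iUnion, Set.mem_singleton_iff, exists_prop]
    obtain ⟨y, hy, hu'⟩ := hu z
    exact ⟨fun h => ⟨y, fun hyx => h (hyx ▸ hy), hy⟩, fun ⟨y', hy', hz⟩ h => hy' ((hu' y' hz).trans (hu' x h).symm)⟩
  have hclosed : IsClosed (Ax x) := ⟨hcompl ▸ isOpen_biUnion fun y _ => isOpen_agree _ _ _⟩
  have hfib : m ⁻¹' {show (Spec (CommRingCat.of B) : Scheme.{u}) from a} ⊆ Ax x :=
    (hconn a).subset_isClopen ⟨hclosed, isOpen_agree _ _ _⟩ ⟨z₀, hz₀, hx⟩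
  haveI : CompactSpace Z := QuasiCompact.compactSpace_of_compactSpace m
  have hcpt : IsCompact (m '' (Ax x)ᶜ) :=
    IsCompact.image (((show IsOpen (Ax x) from isOpen_agree _ _ _).isClosed_compl).isCompact) m.continuous
  have hsep : ∀ b : PrimeSpectrum B, b ∈ (show Set (PrimeSpectrum B) from m '' (Ax x)ᶜ) →
      ∃ e : B, IsIdempotentElem e ∧ e ∉ a.asIdeal ∧ e ∈ b.asIdeal := fun b hb => by
    refine hB.exists_separate fun hab => ?_
    obtain ⟨z, hz, hzb⟩ := hb
    exact hz (hfib (hzb.trans hab.symm))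
  choose e he hea heb using hsep
  obtain ⟨u, hu'⟩ := IsCompact.elim_finite_subcover (X := PrimeSpectrum B) hcpt
    (fun b : {b // b ∈ (show Set (PrimeSpectrum B) from m '' (Ax x)ᶜ)} =>
      (PrimeSpectrum.basicOpen (1 - e b.1 b.2) : Set (PrimeSpectrum B)))
    (fun b => (PrimeSpectrum.basicOpen _).isOpen)
    (fun b hb => Set.mem_iUnion.2 ⟨⟨b, hb⟩, fun h => b.isPrime.ne_top ((Ideal.eq_top_iff_one _).2
      (by simpa using b.asIdeal.add_mem h (heb b hb)))⟩)
  refine ⟨∏ b ∈ u, e b.1 b.2, x, ?_, fun h => ?_, fun z hz => ?_⟩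
  · show _ * _ = _
    rw [← Finset.prod_mul_distrib]
    exact Finset.prod_congr rfl fun b _ => he b.1 b.2
  · obtain ⟨b, -, hb⟩ := (a.isPrime.prod_mem_iff).1 h
    exact hea b.1 b.2 hb
  · by_contra hzx
    obtain ⟨b, hbu, hzb⟩ := Set.mem_iUnion₂.1 (hu' ⟨z, hzx, rfl⟩)
    haveI := (show PrimeSpectrum B from m z).isPrime
    have heq : e b.1 b.2 * (1 - e b.1 b.2) = 0 := by rw [mul_sub, mul_one, (he b.1 b.2).eq, sub_self]
    obtain ⟨r, hr⟩ := Finset.dvd_prod_of_mem (fun b : {b // b ∈ (show Set (PrimeSpectrum B) from m '' (Ax x)ᶜ)} =>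
      e b.1 b.2) hbu
    have h1 : e b.1 b.2 ∈ (show PrimeSpectrum B from m z).asIdeal :=
      ((Ideal.IsPrime.mem_or_mem inferInstance (heq ▸ Ideal.zero_mem _)).resolve_right hzb)
    exact hz (hr ▸ Ideal.mul_mem_right r _ h1)

include hB hc hsurj hconn in
/-- Pulling back global sections along a morphism with connected fibres is bijective. -/
theorem bijective_sec_of_connected :
    Function.Bijective (sec m G (EtCoh.top (Spec (CommRingCat.of B))) m (Category.comp_id m)) := by
  refine ⟨fun s t h => eq_of_agree G fun a => ?_, fun σ => ?_⟩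
  · obtain ⟨z, hz⟩ := hsurj a
    have h' := (mem_agree_sec m G s t z).1 (h ▸ agree_self _ _ _)
    exact Eq.mp (congrArg (· ∈ agree G s t) hz) h'
  choose e x he hea hex using exists_nhd_agree hB m G c hc hsurj hconn σ
  obtain ⟨u, hu⟩ := IsCompact.elim_finite_subcover (isCompact_univ (X := PrimeSpectrum B))
    (fun p => (PrimeSpectrum.basicOpen (e p) : Set (PrimeSpectrum B))) (fun p => (PrimeSpectrum.basicOpen (e p)).isOpen)
    (fun p _ => Set.mem_iUnion.2 ⟨p, hea p⟩)
  let f : Fin u.card → PrimeSpectrum B := fun k => (u.equivFin.symm k).1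
  obtain ⟨d, -, hde, hdisj, hdcov⟩ := exists_disjoint (fun k => e (f k)) (fun k => he _) fun p => by
    obtain ⟨q, hq, hpq⟩ := Set.mem_iUnion₂.1 (hu (Set.mem_univ p))
    exact ⟨u.equivFin ⟨q, hq⟩, by simpa [f] using hpq⟩
  let toTop : ∀ k, basic (d k) ⟶ EtCoh.top (Spec (CommRingCat.of B)) := fun k =>
    MorphismProperty.Over.homMk (basic (d k)).hom (Category.comp_id _)
  obtain ⟨s, hs⟩ := exists_glue d hdisj hdcov G (fun k => G.obj.map (toTop k).op (c (x (f k)))) toTop
  refine ⟨s, eq_of_agree _ fun z => ?_⟩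
  obtain ⟨k, hk⟩ := hdcov (show PrimeSpectrum B from m z)
  refine agree_trans _ ((mem_agree_sec m G s (c (x (f k))) z).2 ?_) (agree_symm _ (hex (f k) z ?_))
  · obtain ⟨y, hy⟩ : (show PrimeSpectrum B from m z) ∈ Set.range (basic (d k)).hom :=
      (PrimeSpectrum.localization_away_comap_range (Localization.Away (d k)) (d k)).ge hk
    exact ⟨_, toTop k, ⟨y, hy⟩, hs k⟩
  · obtain ⟨r, hr⟩ := hde k
    exact fun h => hk (hr ▸ Ideal.mul_mem_right r _ h)

end Groth.Agent.PointLim24
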