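import Groth.Agent.Lib.PointLim24.Acyclic
import Groth.Agent.Lib.StrictLim24.Main
import Groth.Agent.Lib.Constr24.SuppColim
import Groth.Agent.Lib.EtDesc24.SepClosed

/-!
# Cohomology over a locally constant spectrum is computed on the fibres
-/

set_option autoImplicit false
set_option linter.style.haveILetI false
set_option linter.unusedSectionVars false
set_option backward.isDefEq.respectTransparency false
set_option backward.isDefEq.respectTransparency.types false

universe u

open CategoryTheory CategoryTheory.Limits AlgebraicGeometry Opposite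

namespace Groth.Agent.PointLim24

open Groth.Agent.EtStalk

variable {K B : Type u} [Field K] [IsSepClosed K] [CommRing B] [Algebra K B] (hB : IsSplit K B)
  {PX : Scheme.{u}} (m : PX ⟶ Spec (CommRingCat.of B))

include hB in
/-- Cohomology is given by the global sections of the higher direct images. -/
theorem nonempty_HF_iso (q : ℕ) :
    Nonempty (EtCoh.HF PX q ≅ EtCoh.Rpush m q ⋙ EtCore.gsec (Spec (CommRingCat.of B))) := by
  let P := Spec (CommRingCat.of B)
  let Hm := preadditiveCoyoneda.obj (op (EtCoh.const PX ℤ))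
  haveI := preservesEpimorphisms_gsec hB
  haveI := (EtCore.constAdj P).isRightAdjoint
  haveI : (EtCore.gsec P).Additive := (EtCore.constAdj P).right_adjoint_additive
  haveI : (EtCore.gsec P).PreservesHomology := (EtCore.gsec P).preservesHomology_of_preservesEpis_and_kernels
  haveI : (EtCoh.push m).Additive := (EtCoh.pullPushAdj m).right_adjoint_additive
  haveI : (EtColim.secFun (EtCoh.top PX)).Additive := (EtCore.constAdj PX).right_adjoint_additive
  let e₀ : EtCoh.push m ⋙ EtCore.gsec P ≅ Hm :=
    EtCore.pushGsecIso m ≪≫ (StrictLim24.topSecIso PX).symm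
  let eH : Hm.rightDerived q ≅ EtCoh.HF PX q :=
    ExtDerived.rightDerivedCoyonedaNatIso (EtCoh.const PX ℤ) q ≪≫
      NatIso.ofComponents (fun F => Iso.refl _) (fun φ => by ext x; rfl)
  exact ⟨eH.symm ≪≫ ExtDerived.rightDerivedMapIso q e₀.symm ≪≫
    RDComp.rightDerivedPostIso (EtCoh.push m) (EtCore.gsec P) q⟩

include hB in
/-- Vanishing of cohomology is vanishing of the higher direct image. -/
theorem isZero_Rpush_iff (G : EtCoh.Ab PX) (q : ℕ) :
    IsZero ((EtCoh.Rpush m q).obj G) ↔ Subsingleton (EtCoh.H PX G q) := by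
  obtain ⟨e⟩ := nonempty_HF_iso hB m q
  have hb : Subsingleton (EtCoh.H PX G q) ↔
      Subsingleton ((EtCore.gsec (Spec (CommRingCat.of B))).obj ((EtCoh.Rpush m q).obj G)) :=
    (e.app G).addCommGroupIsoToAddEquiv.toEquiv.subsingleton_congr
  rw [hb]
  refine ⟨fun h => ?_, fun h => isZero_of_top hB _ h⟩
  haveI : (EtCore.gsec (Spec (CommRingCat.of B))).Additive := (EtCore.constAdj _).right_adjoint_additive
  exact AddCommGrpCat.subsingleton_of_isZero ((EtCore.gsec _).map_isZero h)

/-- The point of a character. -/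
noncomputable abbrev pt (χ : B →ₐ[K] K) : Spec (CommRingCat.of B) :=
  (Spec.map (CommRingCat.ofHom χ.toRingHom)) (default : Spec (CommRingCat.of K))

theorem pt_asIdeal (χ : B →ₐ[K] K) :
    (show PrimeSpectrum B from pt χ).asIdeal = RingHom.ker χ.toRingHom := by
  show ((default : Spec (CommRingCat.of K)) : PrimeSpectrum K).asIdeal.comap χ.toRingHom = _
  rw [RingHom.ker_eq_comap_bot]
  congr 1

include hB in
/-- Every point is given by a character. -/
theorem exists_pt (p : Spec (CommRingCat.of B)) : ∃ χ : B →ₐ[K] K, pt χ = p := by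
  let p' : PrimeSpectrum B := p
  haveI := p'.isPrime
  choose c hc using fun x => hB.exists_const p'.asIdeal x
  have hu : ∀ x a, x - algebraMap K B a ∈ p'.asIdeal → c x = a := fun x a h => by
    refine sub_eq_zero.1 (const_eq_zero p'.asIdeal ?_)
    rw [map_sub]
    simpa using p'.asIdeal.sub_mem h (hc x)
  let χ : B →ₐ[K] K :=
    { toFun := c
      map_one' := hu 1 1 (by simp)
      map_mul' := fun x y => hu _ _ (by
        have h1 := p'.asIdeal.mul_mem_left y (hc x)
        have h2 := p'.asIdeal.mul_mem_left (algebraMap K B (c x)) (hc y)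
        have h := p'.asIdeal.add_mem h1 h2
        rw [map_mul]
        convert h using 1
        ring)
      map_zero' := hu 0 0 (by simp)
      map_add' := fun x y => hu _ _ (by
        have h := p'.asIdeal.add_mem (hc x) (hc y)
        rw [map_add]
        convert h using 1
        ring)
      commutes' := fun a => hu _ _ (by simp) }
  refine ⟨χ, PrimeSpectrum.ext ?_⟩
  refine (pt_asIdeal χ).trans ?_
  ext x
  show c x = 0 ↔ _
  exact ⟨fun h => by simpa [h] using hc x, fun h => hu x 0 (by simpa using h)⟩

include hB in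
/-- The higher direct image vanishes iff the cohomology of the fibres does. -/
theorem isZero_Rpush_iff_fibres [QuasiCompact m] [QuasiSeparated m] (G : EtCoh.Ab PX) (q : ℕ) :
    IsZero ((EtCoh.Rpush m q).obj G) ↔ ∀ χ : B →ₐ[K] K,
      Subsingleton (EtCoh.H (pullback m (Spec.map (CommRingCat.ofHom χ.toRingHom)))
        ((EtCoh.pull (pullback.fst m (Spec.map (CommRingCat.ofHom χ.toRingHom)))).obj G) q) := by
  suffices key : ∀ χ : B →ₐ[K] K, ∃ (η : Spec (CommRingCat.of (IsLocalRing.ResidueField K)) ⟶ Spec (CommRingCat.of B))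
      (_ : IsSepClosed (IsLocalRing.ResidueField K)), η default = pt χ ∧
      (Subsingleton ((EtCoh.stalk η).obj ((EtCoh.Rpush m q).obj G)) ↔
        Subsingleton (EtCoh.H (pullback m (Spec.map (CommRingCat.ofHom χ.toRingHom)))
          ((EtCoh.pull (pullback.fst m (Spec.map (CommRingCat.ofHom χ.toRingHom)))).obj G) q)) by
    rw [isZero_iff_stalk]
    constructor
    · intro h χ
      obtain ⟨η, hs, -, hiff⟩ := key χ
      exact hiff.1 (AddCommGrpCat.subsingleton_of_isZero (h _ η))
    · intro h Ω _ _ ξ
      obtain ⟨χ, hχ⟩ := exists_pt hB (ξ default)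
      obtain ⟨η, hs, hη, hiff⟩ := key χ
      exact Constr24.isZero_stalk_congr ξ η (hχ.symm.trans hη.symm) (hiff.2 (h χ))
  intro χ
  let p := pt χ
  let p' : PrimeSpectrum B := p
  let S := (Spec (CommRingCat.of B)).presheaf.stalk p
  letI : Algebra B S := StructureSheaf.stalkAlgebra B p'
  haveI : IsLocalization.AtPrime S p'.asIdeal := StructureSheaf.IsLocalization.to_stalk B p'
  have hunit : ∀ y : p'.asIdeal.primeCompl, IsUnit (χ.toRingHom y) := fun ⟨y, hy⟩ =>
    isUnit_iff_ne_zero.2 fun h => hy ((pt_asIdeal χ).ge h)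
  let a : S →+* K := IsLocalization.lift hunit
  letI : Algebra S K := a.toAlgebra
  have ha : ∀ b : B, a (algebraMap B S b) = χ b := fun b => IsLocalization.lift_eq _ b
  have hbij : Function.Bijective a := by
    refine ⟨(injective_iff_map_eq_zero a).2 fun z hz => ?_, fun c => ⟨algebraMap B S (algebraMap K B c),
      (ha _).trans (χ.commutes c)⟩⟩
    obtain ⟨x, s, rfl⟩ := IsLocalization.exists_mk'_eq p'.asIdeal.primeCompl z
    have hx : χ x = 0 := by
      have h := congrArg a (IsLocalization.mk'_spec S x s)
      rw [map_mul, hz, zero_mul, ha] at h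
      exact h.symm
    obtain ⟨e, c, -, he, hex⟩ := hB x p'.asIdeal p'.isPrime
    have hc : c = 0 := by
      have h := congrArg χ hex
      rw [map_mul, map_mul, hx, mul_zero, AlgHom.commutes] at h
      exact ((mul_eq_zero.1 h.symm).resolve_left fun h' => he ((pt_asIdeal χ).ge h'))
    rw [IsLocalization.mk'_eq_zero_iff]
    exact ⟨⟨e, he⟩, by rw [hex, hc, map_zero, mul_zero]⟩
  haveI : IsLocalHom (algebraMap S K) :=
    ⟨fun z hz => by
      obtain ⟨w, hw⟩ := hbij.2 ↑(hz.unit⁻¹)
      exact IsUnit.of_mul_eq_one w (hbij.1 (by rw [map_mul, hw, map_one]; exact hz.mul_val_inv))⟩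
  haveI : IsSepClosed (IsLocalRing.ResidueField K) := Groth.Agent.EtDesc24.isSepClosed_residueField K
  haveI hR : Hensel.IsStrictHenselization S K :=
    { henselian := inferInstance
      isSepClosure := ⟨inferInstance, by
        have hs : Function.Surjective (algebraMap (IsLocalRing.ResidueField S) (IsLocalRing.ResidueField K)) := fun z => by
          obtain ⟨z, rfl⟩ := IsLocalRing.residue_surjective z
          obtain ⟨w, rfl⟩ := hbij.2 z
          exact ⟨IsLocalRing.residue S w, rfl⟩
        exact ⟨fun z => by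
          obtain ⟨w, rfl⟩ := hs z
          exact isSeparable_algebraMap w⟩⟩
      universal := fun T _ _ f _ τ hτ => by
        let ε : S ≃+* K := RingEquiv.ofBijective a hbij
        refine ⟨f.comp ε.symm.toRingHom, ⟨RingHom.ext fun z => congrArg f (ε.symm_apply_apply z), fun z => ?_⟩,
          fun g hg => RingHom.ext fun z => ?_⟩
        · obtain ⟨w, rfl⟩ := ε.surjective z
          show IsLocalRing.residue T (f (ε.symm (ε w))) = _
          rw [ε.symm_apply_apply]
          exact (congrArg (fun t => t (IsLocalRing.residue S w)) hτ).symm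
        · obtain ⟨w, rfl⟩ := ε.surjective z
          show g (algebraMap S K w) = f (ε.symm (ε w))
          rw [ε.symm_apply_apply, ← hg.1]
          rfl }
  have hspec : Hens2.specOf (Spec (CommRingCat.of B)) p K = Spec.map (CommRingCat.ofHom χ.toRingHom) := by
    show Spec.map _ ≫ _ = _
    rw [Spec.fromSpecStalk_eq', ← Spec.map_comp]
    exact congrArg Spec.map (CommRingCat.hom_ext (RingHom.ext ha))
  refine ⟨closedPt K ≫ Hens2.specOf (Spec (CommRingCat.of B)) p K, inferInstance, ?_, ?_⟩
  · rw [hspec, Scheme.Hom.comp_apply]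
    exact congrArg _ (Subsingleton.elim (α := PrimeSpectrum K) _ _)
  · obtain ⟨T⟩ := StrictLim24.nonempty_strictSys (Spec (CommRingCat.of B)) p K
    obtain ⟨e⟩ := T.nonempty_stalk_Rpush_iso m q
    rw [← hspec]
    exact (e.app G).addCommGroupIsoToAddEquiv.toEquiv.subsingleton_congr

include hB in
/-- Vanishing of cohomology is checked on the fibres. -/
theorem subsingleton_H_iff_fibres [QuasiCompact m] [QuasiSeparated m] (G : EtCoh.Ab PX) (q : ℕ) :
    Subsingleton (EtCoh.H PX G q) ↔ ∀ χ : B →ₐ[K] K,
      Subsingleton (EtCoh.H (pullback m (Spec.map (CommRingCat.ofHom χ.toRingHom)))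
        ((EtCoh.pull (pullback.fst m (Spec.map (CommRingCat.ofHom χ.toRingHom)))).obj G) q) :=
  (isZero_Rpush_iff hB m G q).symm.trans (isZero_Rpush_iff_fibres hB m G q)

end Groth.Agent.PointLim24
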