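import Groth.Agent.Lib.PointLim24.Connected
import Groth.Agent.Lib.LocAcyc24.Transport
import Groth.Prelude.Def_Hens2
import Mathlib.AlgebraicGeometry.Pullbacks
import Mathlib.AlgebraicGeometry.Stalk
import Mathlib.AlgebraicGeometry.ResidueField

/-!
# A point over a strict localization, and the varieties of vanishing cycles as fibres
-/

set_option autoImplicit false
set_option linter.style.haveILetI false
set_option linter.unusedSectionVars false
set_option backward.isDefEq.respectTransparency false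
set_option backward.isDefEq.respectTransparency.types false

universe u

open CategoryTheory CategoryTheory.Limits AlgebraicGeometry Opposite
open scoped TensorProduct

namespace Groth.Agent.PointLim24

section Points

variable {S : Scheme.{u}} {K : Type u} [Field K] (τ : Spec (CommRingCat.of K) ⟶ S) (s : S) (RS : Type u)
  [CommRing RS] [Algebra (S.presheaf.stalk s) RS]

/-- A point factors through the local ring of every specialization. -/
theorem exists_factor_stalk (h : τ default ⤳ s) :
    ∃ ρ : S.presheaf.stalk s →+* K, Spec.map (CommRingCat.ofHom ρ) ≫ S.fromSpecStalk s = τ := by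
  haveI : IsLocalRing K := inferInstance
  have hd : τ (IsLocalRing.closedPoint K) ⤳ s := by
    rwa [show (default : Spec (CommRingCat.of K)) = IsLocalRing.closedPoint K from
      Subsingleton.elim (α := PrimeSpectrum K) _ _] at h
  let ρ := S.presheaf.stalkSpecializes hd ≫ Scheme.stalkClosedPointTo τ
  refine ⟨ρ.hom, ?_⟩
  rw [CommRingCat.ofHom_hom, Spec.map_comp, Category.assoc, Scheme.SpecMap_stalkSpecializes_fromSpecStalk]
  exact Scheme.Spec_stalkClosedPointTo_fromSpecStalk τ

variable [IsSepClosed K] [IsLocalRing RS] [IsLocalHom (algebraMap (S.presheaf.stalk s) RS)]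
  [Hensel.IsStrictHenselization (S.presheaf.stalk s) RS]

/-- A separably closed point pulled back to a strict localization is the spectrum of a locally constant
algebra. -/
theorem exists_split_presentation {P : Scheme.{u}} (aS : P ⟶ Spec (CommRingCat.of K))
    (bS : P ⟶ Spec (CommRingCat.of RS)) (cS : IsPullback aS bS τ (Hens2.specOf S s RS)) [Nonempty P] :
    ∃ (B : Type u) (_ : CommRing B) (_ : Algebra K B) (i : P ≅ Spec (CommRingCat.of B)),
      IsSplit K B ∧ i.hom ≫ Spec.map (CommRingCat.ofHom (algebraMap K B)) = aS := by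
  obtain ⟨ρ, hρ⟩ := exists_factor_stalk τ s (by
    obtain ⟨p⟩ := ‹Nonempty P›
    have h1 : τ default = Hens2.specOf S s RS (bS p) := by
      rw [show (default : Spec (CommRingCat.of K)) = aS p from Subsingleton.elim (α := PrimeSpectrum K) _ _]
      exact congrArg (fun m : P ⟶ S => m p) cS.w
    rw [h1, Hens2.specOf, Scheme.Hom.comp_apply]
    have h2 : S.fromSpecStalk s ((Spec.map (CommRingCat.ofHom (algebraMap (S.presheaf.stalk s) RS))) (bS p)) ∈
        Set.range (S.fromSpecStalk s) := ⟨_, rfl⟩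
    rw [Scheme.range_fromSpecStalk] at h2
    exact h2)
  letI : Algebra (S.presheaf.stalk s) K := ρ.toAlgebra
  have hmono : IsPullback aS bS (Spec.map (CommRingCat.ofHom (algebraMap (S.presheaf.stalk s) K)))
      (Spec.map (CommRingCat.ofHom (algebraMap (S.presheaf.stalk s) RS))) := by
    have hw : aS ≫ Spec.map (CommRingCat.ofHom (algebraMap (S.presheaf.stalk s) K)) =
        bS ≫ Spec.map (CommRingCat.ofHom (algebraMap (S.presheaf.stalk s) RS)) := by
      rw [← cancel_mono (S.fromSpecStalk s), Category.assoc, Category.assoc]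
      exact (congrArg (aS ≫ ·) hρ).trans cS.w
    refine ⟨⟨hw⟩, ⟨PullbackCone.IsLimit.mk hw (fun c => cS.lift c.fst c.snd ?_)
      (fun c => cS.lift_fst _ _ _) (fun c => cS.lift_snd _ _ _)
      (fun c m h1 h2 => cS.hom_ext (by rw [h1, cS.lift_fst]) (by rw [h2, cS.lift_snd]))⟩⟩
    refine (congrArg (c.fst ≫ ·) hρ.symm).trans ((Category.assoc _ _ _).symm.trans ?_)
    exact (congrArg (· ≫ S.fromSpecStalk s) c.condition).trans (Category.assoc _ _ _)
  refine ⟨K ⊗[S.presheaf.stalk s] RS, inferInstance, inferInstance,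
    hmono.isoPullback ≪≫ pullbackSpecIso (S.presheaf.stalk s) K RS, isSplit_tensor (S.presheaf.stalk s) RS, ?_⟩
  refine (Category.assoc _ _ _).trans ?_
  refine (congrArg (hmono.isoPullback.hom ≫ ·) ?_).trans hmono.isoPullback_hom_fst
  exact pullbackSpecIso_hom_fst _ _ _

end Points

section Fibre

variable {X S : Scheme.{u}} (f : X ⟶ S) (hf : EtRest.IsLocallyAcyclic f) (x : X) {RS RX : Type u}
  [CommRing RS] [CommRing RX] [IsLocalRing RS] [IsLocalRing RX]
  [Algebra (S.presheaf.stalk (f.base x)) RS] [IsLocalHom (algebraMap (S.presheaf.stalk (f.base x)) RS)]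
  [Hensel.IsStrictHenselization (S.presheaf.stalk (f.base x)) RS]
  [Algebra (X.presheaf.stalk x) RX] [IsLocalHom (algebraMap (X.presheaf.stalk x) RX)]
  [Hensel.IsStrictHenselization (X.presheaf.stalk x) RX]
  (ψ : RS →+* RX) [IsLocalHom ψ]
  (hψ : ψ.comp (algebraMap (S.presheaf.stalk (f.base x)) RS) =
    (algebraMap (X.presheaf.stalk x) RX).comp (f.stalkMap x).hom)
  {K : Type u} [Field K] [IsSepClosed K] (κ : RS →+* K) {Q : Scheme.{u}} (aQ : Q ⟶ Spec (CommRingCat.of K))
  (bQ : Q ⟶ Spec (CommRingCat.of RX))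
  (hQ : IsPullback aQ bQ (Spec.map (CommRingCat.ofHom κ)) (Spec.map (CommRingCat.ofHom ψ)))

include hf hψ hQ in
/-- The cohomology of a variety of vanishing cycles. -/
theorem fibre_acyclic (n : ℕ) (hn : (n : X.residueField x) ≠ 0) :
    (∀ q : ℕ, 0 < q → Subsingleton (EtCoh.H Q (EtCoh.const Q (ZMod n)) q)) ∧
      Nonempty (EtCoh.H Q (EtCoh.const Q (ZMod n)) 0 ≃+ ZMod n) := by
  letI : Algebra RS RX := ψ.toAlgebra
  letI : Algebra RS K := κ.toAlgebra
  haveI : IsLocalHom (algebraMap RS RX) := ‹IsLocalHom ψ›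
  obtain ⟨hq, ⟨e⟩⟩ := hf x RS RX hψ K n hn
  let i : Q ≅ Spec (CommRingCat.of (EtRest.vcRing RS RX K)) :=
    hQ.flip.isoPullback ≪≫ pullbackSpecIso RS RX K
  have hi : ∀ q, Nonempty (EtCoh.H Q (EtCoh.const Q (ZMod n)) q ≃+
      EtCoh.H (Spec (CommRingCat.of (EtRest.vcRing RS RX K)))
        (EtCoh.const (Spec (CommRingCat.of (EtRest.vcRing RS RX K))) (ZMod n)) q) := fun q => by
    obtain ⟨a⟩ := LocAcyc24.nonempty_H_const_addEquiv i.hom (ZMod n) q
    exact ⟨a.symm⟩
  refine ⟨fun q hq' => ?_, (hi 0).map fun a => a.trans e⟩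
  obtain ⟨a⟩ := hi q
  haveI := hq q hq'
  exact a.toEquiv.subsingleton

include hf hψ hQ in
/-- A variety of vanishing cycles is connected. -/
theorem fibre_connected : Nonempty Q ∧ PreconnectedSpace Q := by
  letI : Algebra RS RX := ψ.toAlgebra
  letI : Algebra RS K := κ.toAlgebra
  haveI : IsLocalHom (algebraMap RS RX) := ‹IsLocalHom ψ›
  obtain ⟨m, hm, hm'⟩ : ∃ m : ℕ, 1 < m ∧ (m : X.residueField x) ≠ 0 := by
    by_cases h2 : ((2 : ℕ) : X.residueField x) = 0
    · refine ⟨3, by norm_num, fun h3 => one_ne_zero (α := X.residueField x) ?_⟩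
      have h : ((3 : ℕ) : X.residueField x) = ((2 : ℕ) : X.residueField x) + 1 := by push_cast; norm_num
      rwa [h3, h2, zero_add, eq_comm] at h
    · exact ⟨2, by norm_num, h2⟩
  obtain ⟨-, he⟩ := hf x RS RX hψ K m hm'
  obtain ⟨hne, hpre⟩ := connected_of_H0 (EtRest.vcRing RS RX K) m hm he
  let i : Q ≅ Spec (CommRingCat.of (EtRest.vcRing RS RX K)) :=
    hQ.flip.isoPullback ≪≫ pullbackSpecIso RS RX K
  haveI : PreconnectedSpace (Spec (CommRingCat.of (EtRest.vcRing RS RX K))) := hpre
  exact ⟨hne.map fun p => i.inv p, i.inv.homeomorph.surjective.denseRange.preconnectedSpace i.inv.continuous⟩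

end Fibre

end Groth.Agent.PointLim24
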