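import Groth.Agent.Lib.PointLim24.BC0Stalk
import Groth.Agent.Lib.PointLim24.ConstSections
import Groth.Agent.Lib.PointLim24.Leray
import Groth.Agent.Lib.PointLim24.Presentation

/-!
# The fibres of the map between the strict localizations over a point
-/

set_option autoImplicit false
set_option linter.style.haveILetI false
set_option linter.unusedSectionVars false
set_option backward.isDefEq.respectTransparency false
set_option backward.isDefEq.respectTransparency.types false

universe u

open CategoryTheory CategoryTheory.Limits AlgebraicGeometry Opposite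

namespace Groth.Agent.PointLim24

open Groth.Agent.EtStalk Groth.Agent.StrictLim24

/-- Transport of bijectivity of sections along an isomorphism of the target. -/
theorem bijective_sec_of_iso {A A' Z : Scheme.{u}} (m : Z ⟶ A) (i : A ≅ A') (G : EtCoh.Ab A)
    (h : Function.Bijective (sec (m ≫ i.hom) ((EtCoh.pull i.inv).obj G) (EtCoh.top A') (m ≫ i.hom)
      (Category.comp_id _))) :
    Function.Bijective (sec m G (EtCoh.top A) m (Category.comp_id m)) := by
  have hm : (m ≫ i.hom) ≫ i.inv = m := by rw [Category.assoc, i.hom_inv_id, Category.comp_id]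
  haveI : IsIso (show A' ⟶ (EtCoh.top A).left from i.inv) := inferInstanceAs (IsIso i.inv)
  have h₁ : Function.Bijective (sec i.inv G (EtCoh.top A) i.inv (Category.comp_id _)) :=
    bijective_sec i.inv G (EtCoh.top A) i.inv (Category.comp_id _)
  let Φ := ((EtLim24.pullT (m ≫ i.hom) i.inv m hm).hom.app G).hom.app (op (EtCoh.top Z))
  haveI : IsIso Φ := inferInstanceAs (IsIso (((sheafToPresheaf _ _).map
    ((EtLim24.pullT (m ≫ i.hom) i.inv m hm).hom.app G)).app _))
  have hcomp : (⇑(sec (m ≫ i.hom) ((EtCoh.pull i.inv).obj G) (EtCoh.top A') (m ≫ i.hom) (Category.comp_id _))) ∘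
      ⇑(sec i.inv G (EtCoh.top A) i.inv (Category.comp_id _)) =
      ⇑Φ ∘ ⇑(sec m G (EtCoh.top A) m (Category.comp_id m)) :=
    funext fun t => sec_sec (m ≫ i.hom) i.inv m hm G (EtCoh.top A) i.inv (Category.comp_id _) m
      (Category.comp_id m) hm t
  exact (Function.Bijective.of_comp_iff' (ConcreteCategory.bijective_of_isIso Φ) _).1 (hcomp ▸ h.comp h₁)

variable {X S : Scheme.{u}} (f : X ⟶ S) (x : X) {RS RX : Type u}
  [CommRing RS] [CommRing RX] [IsLocalRing RS] [IsLocalRing RX]
  [Algebra (S.presheaf.stalk (f.base x)) RS] [IsLocalHom (algebraMap (S.presheaf.stalk (f.base x)) RS)]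
  [Hensel.IsStrictHenselization (S.presheaf.stalk (f.base x)) RS]
  [Algebra (X.presheaf.stalk x) RX] [IsLocalHom (algebraMap (X.presheaf.stalk x) RX)]
  [Hensel.IsStrictHenselization (X.presheaf.stalk x) RX]
  (ψ : RS →+* RX) [IsLocalHom ψ]
  (hψ : ψ.comp (algebraMap (S.presheaf.stalk (f.base x)) RS) =
    (algebraMap (X.presheaf.stalk x) RX).comp (f.stalkMap x).hom)
  {K : Type u} [Field K] [IsSepClosed K] {τ : Spec (CommRingCat.of K) ⟶ S}
  {P PX : Scheme.{u}} {aS : P ⟶ Spec (CommRingCat.of K)} {bS : P ⟶ Spec (CommRingCat.of RS)}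
  (cS : IsPullback aS bS τ (Hens2.specOf S (f.base x) RS))
  {aX : PX ⟶ Spec (CommRingCat.of K)} {bX : PX ⟶ Spec (CommRingCat.of RX)}
  (cX : IsPullback aX bX τ (Hens2.specOf X x RX ≫ f))
  {m : PX ⟶ P} (w : m ≫ aS = aX) (hm : m ≫ bS = bX ≫ Spec.map (CommRingCat.ofHom ψ))

include hψ cS cX w hm in
/-- Over a section of the point, the fibre is a variety of vanishing cycles. -/
theorem exists_fibre_square {B : Type u} [CommRing B] [Algebra K B] (i : P ≅ Spec (CommRingCat.of B))
    (hi : i.hom ≫ Spec.map (CommRingCat.ofHom (algebraMap K B)) = aS) (χ : B →ₐ[K] K) :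
    ∃ κ : RS →+* K, (Spec.map (CommRingCat.ofHom κ) ≫ Hens2.specOf S (f.base x) RS = τ ∧
        Spec.map (CommRingCat.ofHom κ) = Spec.map (CommRingCat.ofHom χ.toRingHom) ≫ i.inv ≫ bS) ∧
      IsPullback (pullback.snd (m ≫ i.hom) (Spec.map (CommRingCat.ofHom χ.toRingHom)))
        (pullback.fst (m ≫ i.hom) (Spec.map (CommRingCat.ofHom χ.toRingHom)) ≫ bX)
        (Spec.map (CommRingCat.ofHom κ)) (Spec.map (CommRingCat.ofHom ψ)) := by
  let c := Spec.map (CommRingCat.ofHom χ.toRingHom)
  have hc : c ≫ i.inv ≫ aS = 𝟙 _ := by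
    rw [← hi, i.inv_hom_id_assoc, ← Spec.map_comp]
    refine (congrArg Spec.map (CommRingCat.hom_ext ?_ : _ = 𝟙 (CommRingCat.of K))).trans (Spec.map_id _)
    exact χ.comp_algebraMap
  let κ := (Spec.preimage (c ≫ i.inv ≫ bS)).hom
  have hκ : Spec.map (CommRingCat.ofHom κ) = c ≫ i.inv ≫ bS := by
    rw [CommRingCat.ofHom_hom, Spec.map_preimage]
  refine ⟨κ, ⟨?_, hκ⟩, ?_⟩
  · rw [hκ, Category.assoc, Category.assoc, ← cS.w, reassoc_of% hc]
  · have hψ' := (LocAcyc24.specOf_compat f ψ).1 hψ
    have h1 : IsPullback m bX bS (Spec.map (CommRingCat.ofHom ψ)) := by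
      refine IsPullback.of_right ?_ hm cS
      rw [w, hψ']
      exact cX
    have h2 : IsPullback (m ≫ i.hom) bX (i.inv ≫ bS) (Spec.map (CommRingCat.ofHom ψ)) := by
      refine h1.of_iso (Iso.refl _) i (Iso.refl _) (Iso.refl _) (by simp) (by simp) (by simp) (by simp)
    rw [hκ]
    exact (IsPullback.of_hasPullback (m ≫ i.hom) c).flip.paste_vert h2

variable (hf : EtRest.IsLocallyAcyclic f)

include hψ cS cX w hm hf in
/-- Pulling back constant sections to the strict localization of the source is bijective. -/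
theorem bijective_sec_const [QuasiCompact m] (G : EtCoh.Ab P) {M : Type*}
    (c : M → G.obj.obj (op (EtCoh.top P)))
    (hc : ∀ (Ω : Type u) [Field Ω] [IsSepClosed Ω] (ξ : Spec (CommRingCat.of Ω) ⟶ P)
      (v : fib ξ (EtCoh.top P)), Function.Bijective fun z => germ ξ G v (c z)) :
    Function.Bijective (sec m G (EtCoh.top P) m (Category.comp_id m)) := by
  by_cases hP : Nonempty P
  swap
  · rw [not_nonempty_iff] at hP
    haveI : IsEmpty PX := ⟨fun z => hP.false (m z)⟩
    exact ⟨fun s t _ => eq_of_agree G fun z => (hP.false z).elim,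
      fun t => ⟨0, eq_of_agree _ fun z => (isEmptyElim (show PX from z))⟩⟩
  obtain ⟨B, _, _, i, hB, hi⟩ := exists_split_presentation τ (f.base x) RS aS bS cS
  refine bijective_sec_of_iso m i G ?_
  have hsq := exists_fibre_square f x ψ hψ cS cX w hm i hi
  have hrange : ∀ χ : B →ₐ[K] K,
      Set.range (pullback.fst (m ≫ i.hom) (Spec.map (CommRingCat.ofHom χ.toRingHom))) =
        (m ≫ i.hom) ⁻¹' {pt χ} := fun χ => by
    rw [Scheme.Pullback.range_fst]
    refine congrArg ((m ≫ i.hom) ⁻¹' ·) (Set.ext fun y => ⟨?_, ?_⟩)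
    · rintro ⟨z, rfl⟩
      exact congrArg _ (Subsingleton.elim (α := PrimeSpectrum K) _ _)
    · rintro rfl
      exact ⟨default, rfl⟩
  refine bijective_sec_of_connected hB (m ≫ i.hom) ((EtCoh.pull i.inv).obj G)
    (fun z => sec i.inv G (EtCoh.top P) i.inv (Category.comp_id _) (c z))
    (fun Ω _ _ ξ v => bijective_germ_sec i.inv G c ξ v fun v' => hc Ω _ v') (fun a => ?_) (fun a => ?_)
  all_goals
    obtain ⟨χ, rfl⟩ := exists_pt hB a
    obtain ⟨κ, -, hQ⟩ := hsq χ
    obtain ⟨⟨q⟩, hpre⟩ := fibre_connected f hf x ψ hψ κ _ _ hQ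
  · exact ⟨_, (hrange χ).le ⟨q, rfl⟩⟩
  · rw [← hrange χ]
    exact isPreconnected_range (pullback.fst (m ≫ i.hom) (Spec.map (CommRingCat.ofHom χ.toRingHom))).continuous

include hψ cS cX w hm hf in
/-- The strict localization of the source over a point has no higher cohomology. -/
theorem subsingleton_H_const [QuasiCompact m] [QuasiSeparated m] (n : ℕ) (hn : (n : X.residueField x) ≠ 0)
    (q : ℕ) (hq : 0 < q) : Subsingleton (EtCoh.H PX (EtCoh.const PX (ZMod n)) q) := by
  by_cases hP : Nonempty P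
  swap
  · rw [not_nonempty_iff] at hP
    haveI : IsEmpty PX := ⟨fun z => hP.false (m z)⟩
    have hz : IsZero (EtCoh.const PX (ZMod n)) := by
      rw [isZero_iff_stalk]
      intro Ω _ _ ξ
      exact (IsEmpty.false (ξ default)).elim
    haveI : (EtCoh.HF PX q).Additive := by unfold EtCoh.HF; infer_instance
    exact AddCommGrpCat.subsingleton_of_isZero (Functor.map_isZero (EtCoh.HF PX q) hz)
  obtain ⟨B, _, _, i, hB, hi⟩ := exists_split_presentation τ (f.base x) RS aS bS cS
  rw [subsingleton_H_iff_fibres hB (m ≫ i.hom)]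
  intro χ
  obtain ⟨κ, -, hQ⟩ := exists_fibre_square f x ψ hψ cS cX w hm i hi χ
  haveI := (fibre_acyclic f hf x ψ hψ κ _ _ hQ n hn).1 q hq
  exact @Equiv.subsingleton _ _ ((EtCoh.HF _ q).mapIso (EtCore.pullConst _ (ZMod n))).addCommGroupIsoToAddEquiv.toEquiv
    ((fibre_acyclic f hf x ψ hψ κ _ _ hQ n hn).1 q hq)

end Groth.Agent.PointLim24
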