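import Groth.Agent.Lib.PointLim24.SecCrit
import Groth.Agent.Lib.PointLim24.Fibres
import Groth.Agent.Lib.LocAcyc24.Transport
import Groth.Agent.Lib.EtStalk.HpullComp

/-!
# Degree zero pullback on cohomology as pullback of sections
-/

set_option autoImplicit false
set_option linter.style.haveILetI false
set_option linter.unusedSectionVars false
set_option backward.isDefEq.respectTransparency false
set_option backward.isDefEq.respectTransparency.types false

universe u

open CategoryTheory CategoryTheory.Limits AlgebraicGeometry Opposite CategoryTheory.Abelian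

namespace Groth.Agent.PointLim24

open Groth.Agent.EtStalk Groth.Agent.StrictLim24

/-- The value of a map out of the constant sheaf. -/
theorem H0Sec_mk₀ {Q : Scheme.{u}} {F : EtCoh.Ab Q} (φ : EtCoh.const Q ℤ ⟶ F) :
    H0Sec Q F (Ext.mk₀ φ) = φ.hom.app (op (EtCoh.top Q)) (oneSec Q) := by
  show (AddCommGrpCat.uliftZMultiplesAddEquiv.{u + 1} _) ((EtCore.constAdj Q).homEquiv _ _
    ((Equiv.ofBijective _ (Ext.mk₀_bijective _ _)).symm (Ext.mk₀ φ))) = _
  rw [Equiv.ofBijective_symm_apply_apply, Adjunction.homEquiv_unit]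
  rfl

/-- Degree zero pullback is pullback of sections. -/
theorem bijective_Hpull_zero_iff {X Y : Scheme.{u}} (f : X ⟶ Y) [PreservesFiniteLimits (EtCoh.pull f)]
    (G : EtCoh.Ab Y) :
    Function.Bijective (EtCore.Hpull f G 0) ↔
      Function.Bijective (sec f G (EtCoh.top Y) f (Category.comp_id f)) := by
  have h : ⇑(H0Sec X ((EtCoh.pull f).obj G)) ∘ ⇑(EtCore.Hpull f G 0) =
      ⇑(sec f G (EtCoh.top Y) f (Category.comp_id f)) ∘ ⇑(H0Sec Y G) := funext fun x => by
    obtain ⟨φ, rfl⟩ := (Ext.mk₀_bijective _ _).2 x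
    show H0Sec X ((EtCoh.pull f).obj G) (EtCore.Hpull f G 0 (Ext.mk₀ φ)) =
      sec f G (EtCoh.top Y) f (Category.comp_id f) (H0Sec Y G (Ext.mk₀ φ))
    rw [Hpull_eq, Ext.mapExactFunctor_mk₀]
    erw [Ext.mk₀_comp_mk₀]
    rw [H0Sec_mk₀, H0Sec_mk₀, sec_apply]
    refine (congrArg (((EtCoh.pull f).map φ).hom.app (op (EtCoh.top X))) (pullConst_inv_one f)).trans ?_
    refine (NatTrans.naturality_apply ((EtCoh.pull f).map φ).hom (EtCore.bcTopIso f).inv.op _).trans ?_
    haveI := isIso_topLift_top f
    rw [(IsTerminal.ofIso (EtCore.topIsTerminal X) (asIso (topLift f (EtCoh.top Y) f (Category.comp_id f)))).hom_ext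
      (EtCore.bcTopIso f).inv (topLift f (EtCoh.top Y) f (Category.comp_id f))]
    refine congrArg (((EtCoh.pull f).obj G).obj.map _) ?_
    exact (congrArg (fun r : EtCoh.const Y ℤ ⟶ (EtCoh.push f).obj ((EtCoh.pull f).obj G) =>
      r.hom.app (op (EtCoh.top Y)) (oneSec Y)) ((EtCoh.pullPushAdj f).unit.naturality φ)).symm
  exact (Function.Bijective.of_comp_iff' (H0Sec X ((EtCoh.pull f).obj G)).bijective _).symm.trans
    ((iff_of_eq (congrArg Function.Bijective h)).trans (Function.Bijective.of_comp_iff _ (H0Sec Y G).bijective))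

/-- Pullback along a composite transports bijectivity. -/
theorem bijective_HpullVia_iff {X Y Z : Scheme.{u}} (f : X ⟶ Y) (t : Y ⟶ Z) (f₀ : X ⟶ Z) (w : f ≫ t = f₀)
    [PreservesFiniteLimits (EtCoh.pull f)] (G : EtCoh.Ab Z) (p : ℕ) :
    Function.Bijective (EtCore.HpullVia f t f₀ w G p) ↔
      Function.Bijective (EtCore.Hpull f ((EtCoh.pull t).obj G) p) :=
  Function.Bijective.of_comp_iff'
    (ConcreteCategory.bijective_of_isIso ((EtCoh.HF X p).map (((EtCore.pullComp f t).symm ≪≫
      EtCore.pullCongr w).app G).hom)) _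

/-- Sheaf isomorphisms transport bijectivity of pullback of sections. -/
theorem bijective_sec_congr {A C : Scheme.{u}} (m : A ⟶ C) {G G' : EtCoh.Ab C} (a : G ≅ G') :
    Function.Bijective (sec m G (EtCoh.top C) m (Category.comp_id m)) ↔
      Function.Bijective (sec m G' (EtCoh.top C) m (Category.comp_id m)) := by
  let α := ((EtCoh.pull m).map a.hom).hom.app (op (EtCoh.top A))
  let γ := a.hom.hom.app (op (EtCoh.top C))
  haveI : IsIso α := inferInstanceAs (IsIso (((sheafToPresheaf _ _).map ((EtCoh.pull m).map a.hom)).app _))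
  haveI : IsIso γ := inferInstanceAs (IsIso (((sheafToPresheaf _ _).map a.hom).app _))
  have h : ⇑α ∘ ⇑(sec m G (EtCoh.top C) m (Category.comp_id m)) =
      ⇑(sec m G' (EtCoh.top C) m (Category.comp_id m)) ∘ ⇑γ :=
    funext fun s => sec_nat m a.hom (EtCoh.top C) m (Category.comp_id m) s
  exact (Function.Bijective.of_comp_iff' (ConcreteCategory.bijective_of_isIso α) _).symm.trans
    ((iff_of_eq (congrArg Function.Bijective h)).trans
      (Function.Bijective.of_comp_iff _ (ConcreteCategory.bijective_of_isIso γ)))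

/-- Isomorphisms of the source transport bijectivity of pullback of sections. -/
theorem bijective_sec_source {A A' C : Scheme.{u}} (j : A' ⟶ A) [IsIso j] (m : A ⟶ C) (m' : A' ⟶ C)
    (hm : j ≫ m = m') (G : EtCoh.Ab C) :
    Function.Bijective (sec m' G (EtCoh.top C) m' (Category.comp_id m')) ↔
      Function.Bijective (sec m G (EtCoh.top C) m (Category.comp_id m)) := by
  let Φ := ((EtLim24.pullT j m m' hm).hom.app G).hom.app (op (EtCoh.top A'))
  haveI : IsIso Φ := inferInstanceAs (IsIso (((sheafToPresheaf _ _).map ((EtLim24.pullT j m m' hm).hom.app G)).app _))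
  haveI : IsIso (show A' ⟶ (EtCoh.top A).left from j) := inferInstanceAs (IsIso j)
  have hj := bijective_sec j ((EtCoh.pull m).obj G) (EtCoh.top A) j (Category.comp_id j)
  have h : ⇑(sec j ((EtCoh.pull m).obj G) (EtCoh.top A) j (Category.comp_id j)) ∘
      ⇑(sec m G (EtCoh.top C) m (Category.comp_id m)) = ⇑Φ ∘ ⇑(sec m' G (EtCoh.top C) m' (Category.comp_id m')) :=
    funext fun t => sec_sec j m m' hm G (EtCoh.top C) m (Category.comp_id m) m' (Category.comp_id m') hm t
  exact (Function.Bijective.of_comp_iff' (ConcreteCategory.bijective_of_isIso Φ) _).symm.trans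
    ((iff_of_eq (congrArg Function.Bijective h).symm).trans (Function.Bijective.of_comp_iff' hj _))

/-- Isomorphisms of the target transport bijectivity of pullback of sections. -/
theorem bijective_sec_target {A A' Z : Scheme.{u}} (m : Z ⟶ A) (i : A ≅ A') (G : EtCoh.Ab A) :
    Function.Bijective (sec m G (EtCoh.top A) m (Category.comp_id m)) ↔
      Function.Bijective (sec (m ≫ i.hom) ((EtCoh.pull i.inv).obj G) (EtCoh.top A') (m ≫ i.hom)
        (Category.comp_id _)) := by
  refine ⟨fun h => ?_, bijective_sec_of_iso m i G⟩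
  have hm : (m ≫ i.hom) ≫ i.inv = m := by rw [Category.assoc, i.hom_inv_id, Category.comp_id]
  haveI : IsIso (show A' ⟶ (EtCoh.top A).left from i.inv) := inferInstanceAs (IsIso i.inv)
  have h₁ : Function.Bijective (sec i.inv G (EtCoh.top A) i.inv (Category.comp_id _)) :=
    bijective_sec i.inv G (EtCoh.top A) i.inv (Category.comp_id _)
  let Φ := ((EtLim24.pullT (m ≫ i.hom) i.inv m hm).hom.app G).hom.app (op (EtCoh.top Z))
  haveI : IsIso Φ := inferInstanceAs (IsIso (((sheafToPresheaf _ _).map
    ((EtLim24.pullT (m ≫ i.hom) i.inv m hm).hom.app G)).app _))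
  have hcomp : (⇑(sec (m ≫ i.hom) ((EtCoh.pull i.inv).obj G) (EtCoh.top A') (m ≫ i.hom) (Category.comp_id _))) ∘
      ⇑(sec i.inv G (EtCoh.top A) i.inv (Category.comp_id _)) =
      ⇑Φ ∘ ⇑(sec m G (EtCoh.top A) m (Category.comp_id m)) :=
    funext fun t => sec_sec (m ≫ i.hom) i.inv m hm G (EtCoh.top A) i.inv (Category.comp_id _) m
      (Category.comp_id m) hm t
  exact (Function.Bijective.of_comp_iff _ h₁).1 (hcomp ▸ (ConcreteCategory.bijective_of_isIso Φ).comp h)

/-- Isomorphisms of the source transport vanishing of cohomology. -/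
theorem subsingleton_H_source {A A' C : Scheme.{u}} (j : A' ⟶ A) [IsIso j] (m : A ⟶ C) (m' : A' ⟶ C)
    (hm : j ≫ m = m') (G : EtCoh.Ab C) (q : ℕ) :
    Subsingleton (EtCoh.H A ((EtCoh.pull m).obj G) q) ↔ Subsingleton (EtCoh.H A' ((EtCoh.pull m').obj G) q) :=
  (((AddEquiv.ofBijective _ (LocAcyc24.bijective_Hpull_of_isIso j ((EtCoh.pull m).obj G) q)).trans
    ((EtCoh.HF A' q).mapIso ((EtLim24.pullT j m m' hm).app G)).symm.addCommGroupIsoToAddEquiv).toEquiv).subsingleton_congr

/-- A map between vanishing groups is bijective iff the target vanishes. -/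
theorem bijective_iff_subsingleton {A B : Type*} [AddCommGroup A] [AddCommGroup B] (φ : A →+ B) [Subsingleton A] :
    Function.Bijective φ ↔ Subsingleton B :=
  ⟨fun h => h.2.subsingleton, fun _ => ⟨fun _ _ _ => Subsingleton.elim _ _, fun b => ⟨0, Subsingleton.elim _ _⟩⟩⟩

end Groth.Agent.PointLim24
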