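import Groth.Agent.Lib.Hens.Henselization
import Mathlib.RingTheory.Etale.Field
import Mathlib.FieldTheory.IsSepClosed

/-!
# Tensor products of a strict henselization with a separably closed field are locally constant
-/

set_option autoImplicit false
set_option linter.style.haveILetI false

universe u

open scoped TensorProduct

namespace Groth.Agent.PointLim24

/-- Every element of the algebra is, near every prime, a constant. -/
def IsSplit (K B : Type u) [Field K] [CommRing B] [Algebra K B] : Prop :=
  ∀ (x : B) (p : Ideal B), p.IsPrime →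
    ∃ (e : B) (c : K), IsIdempotentElem e ∧ e ∉ p ∧ e * x = e * algebraMap K B c

variable {K : Type u} [Field K]

/-- A finite separable extension of a separably closed field is trivial. -/
theorem algebraMap_surjective_of_separable [IsSepClosed K] (L : Type u) [Field L] [Algebra K L]
    [Algebra.IsSeparable K L] : Function.Surjective (algebraMap K L) :=
  IsSepClosed.algebraMap_surjective K L

/-- An étale algebra over a separably closed field is locally constant. -/
theorem isSplit_of_etale [IsSepClosed K] (E : Type u) [CommRing E] [Algebra K E] [Algebra.Etale K E] :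
    IsSplit K E := by
  obtain ⟨I, _, Ai, _, _, φ, h⟩ := (Algebra.Etale.iff_exists_algEquiv_prod K E).1 inferInstance
  classical
  haveI : Fintype I := Fintype.ofFinite I
  intro x p hp
  let d : I → E := fun i => φ.symm (Pi.single i 1)
  have hd : ∑ i, d i = 1 := by
    rw [← map_sum, show (∑ i, Pi.single i (1 : Ai i)) = (1 : ∀ i, Ai i) from Finset.univ_sum_single _, map_one]
  obtain ⟨i, hi⟩ : ∃ i, d i ∉ p := by
    by_contra hne
    push Not at hne
    exact hp.ne_top ((Ideal.eq_top_iff_one p).2 (hd ▸ Ideal.sum_mem p fun i _ => hne i))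
  haveI := (h i).2
  obtain ⟨c, hc⟩ := algebraMap_surjective_of_separable (K := K) (Ai i) (φ x i)
  refine ⟨d i, c, ?_, hi, φ.injective ?_⟩
  · show d i * d i = d i
    rw [← map_mul, ← Pi.single_mul, mul_one]
  · rw [map_mul, map_mul, AlgEquiv.commutes, AlgEquiv.apply_symm_apply]
    funext j
    by_cases hj : j = i
    · subst hj
      simp [← hc]
    · simp [Pi.single_eq_of_ne hj]

/-- The property passes to generated algebras. -/
theorem isSplit_of_generators {B : Type u} [CommRing B] [Algebra K B] (s : Set B)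
    (hs : Algebra.adjoin K s = ⊤)
    (h : ∀ x ∈ s, ∀ p : Ideal B, p.IsPrime → ∃ (e : B) (c : K), IsIdempotentElem e ∧ e ∉ p ∧
      e * x = e * algebraMap K B c) : IsSplit K B := by
  intro x p hp
  have hx : x ∈ Algebra.adjoin K s := hs ▸ trivial
  induction hx using Algebra.adjoin_induction with
  | mem y hy => exact h y hy p hp
  | algebraMap c => exact ⟨1, c, IsIdempotentElem.one, hp.one_notMem, rfl⟩
  | add y z _ _ hy hz =>
    obtain ⟨e, c, he, hep, hey⟩ := hy
    obtain ⟨f, d, hf, hfp, hfz⟩ := hz
    refine ⟨e * f, c + d, he.mul hf, fun h => (hp.mem_or_mem h).elim hep hfp, ?_⟩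
    rw [map_add]
    linear_combination f * hey + e * hfz
  | mul y z _ _ hy hz =>
    obtain ⟨e, c, he, hep, hey⟩ := hy
    obtain ⟨f, d, hf, hfp, hfz⟩ := hz
    refine ⟨e * f, c * d, he.mul hf, fun h => (hp.mem_or_mem h).elim hep hfp, ?_⟩
    rw [map_mul]
    linear_combination (f * z) * hey + (e * algebraMap K B c) * hfz

/-- Elements of strict henselizations come from étale algebras. -/
theorem exists_etale_range (O : Type u) [CommRing O] [IsLocalRing O] (R : Type u) [CommRing R] [IsLocalRing R]
    [Algebra O R] [IsLocalHom (algebraMap O R)] [Hensel.IsStrictHenselization O R] (r : R) :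
    ∃ (E : Type u) (_ : CommRing E) (_ : Algebra O E) (_ : Algebra.Etale O E) (ψ : E →ₐ[O] R), r ∈ ψ.range := by
  obtain ⟨ε⟩ := Hens.exists_strictHenselization_equiv (R := O) R
  obtain ⟨i, g, hg⟩ : ∃ i g, Hens.Hs.of (R := O) i g = ε.symm r := by
    obtain ⟨i, g, h⟩ := DirectLimit.exists_eq_mk _ (ε.symm r)
    exact ⟨i, g, h.symm⟩
  obtain ⟨a, ⟨t, ht⟩, rfl⟩ := IsLocalization.exists_mk'_eq i.q.primeCompl g
  have hu : ∀ y : Submonoid.powers t, IsUnit ((IsScalarTower.toAlgHom O i.S i.G) (y : i.S)) := by
    rintro ⟨_, k, rfl⟩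
    exact IsLocalization.map_units (M := i.q.primeCompl) i.G ⟨t ^ k, pow_mem ht k⟩
  let l : Localization.Away t →ₐ[O] i.G := IsLocalization.liftAlgHom (M := Submonoid.powers t) hu
  haveI : Algebra.Etale i.S (Localization.Away t) := inferInstance
  haveI : Algebra.Etale O (Localization.Away t) := Algebra.Etale.comp O i.S _
  refine ⟨Localization.Away t, inferInstance, inferInstance, inferInstance,
    (ε.toAlgHom.comp (Hens.Hs.of i)).comp l,
    ⟨IsLocalization.mk' (Localization.Away t) a ⟨t, Submonoid.mem_powers t⟩, ?_⟩⟩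
  have hl : l (IsLocalization.mk' (Localization.Away t) a ⟨t, Submonoid.mem_powers t⟩) = IsLocalization.mk' i.G a ⟨t, ht⟩ := by
    rw [IsLocalization.eq_mk'_iff_mul_eq]
    have hla : ∀ z : i.S, l (algebraMap i.S (Localization.Away t) z) = algebraMap i.S i.G z := fun z =>
      IsLocalization.lift_eq _ z
    show l _ * algebraMap i.S i.G t = _
    rw [← hla t, ← map_mul, IsLocalization.mk'_spec, hla]
  show ε (Hens.Hs.of i (l _)) = r
  rw [hl, hg, AlgEquiv.apply_symm_apply]

/-- The tensor product of a strict henselization with a separably closed field is locally constant. -/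
theorem isSplit_tensor [IsSepClosed K] (O : Type u) [CommRing O] [IsLocalRing O] (R : Type u) [CommRing R]
    [IsLocalRing R] [Algebra O R] [IsLocalHom (algebraMap O R)] [Hensel.IsStrictHenselization O R] [Algebra O K] :
    IsSplit K (K ⊗[O] R) := by
  refine isSplit_of_generators (B := K ⊗[O] R) ((fun r : R => (1 : K) ⊗ₜ[O] r) '' Set.univ)
    (Algebra.TensorProduct.adjoin_one_tmul_image_eq_top _ (eq_top_iff.2 fun r _ => Algebra.subset_adjoin trivial))
    (fun x hx p hp => ?_)
  obtain ⟨r, -, rfl⟩ := hx
  obtain ⟨E, _, _, _, ψ, a, rfl⟩ := exists_etale_range O R r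
  haveI := hp
  let Φ : K ⊗[O] E →ₐ[K] K ⊗[O] R := Algebra.TensorProduct.map (AlgHom.id K K) ψ
  obtain ⟨e, c, he, hep, hea⟩ := isSplit_of_etale (K := K) (K ⊗[O] E) (1 ⊗ₜ[O] a) (p.comap Φ) inferInstance
  refine ⟨Φ e, c, he.map Φ, hep, ?_⟩
  have h := congrArg Φ hea
  rw [map_mul, map_mul, AlgHom.commutes] at h
  simpa [Φ] using h

end Groth.Agent.PointLim24
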