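import Groth.Agent.Lib.PointLim24.ConnSections
import Groth.Agent.Lib.LocAcyc24.TorsionConst
import Mathlib.Algebra.Homology.DerivedCategory.Ext.ExactSequences

/-!
# Cohomology of cyclic constant sheaves from that of a multiple
-/

set_option autoImplicit false
set_option linter.style.haveILetI false
set_option linter.unusedSectionVars false
set_option backward.isDefEq.respectTransparency false
set_option backward.isDefEq.respectTransparency.types false

universe u

open CategoryTheory CategoryTheory.Limits AlgebraicGeometry Opposite CategoryTheory.Abelian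

namespace Groth.Agent.PointLim24

open Groth.Agent.EtStalk Groth.Agent.LocAcyc24

variable {Y : Scheme.{u}}

theorem cst_map {A B : AddCommGrpCat.{u + 1}} (g : A ⟶ B) (U : Y.Etale) (a : A) :
    ((cs Y).map g).hom.app (op U) (cst A U a) = cst B U (g a) :=
  (ConcreteCategory.congr_hom (congrArg (fun t => NatTrans.app t (op U))
    (toSheafify_naturality Y.smallEtaleTopology ((Functor.const Y.Etaleᵒᵖ).map g))) a).symm

/-- The cyclic sequence. -/
theorem exists_zmod_sequence (d e : ℕ) (hd : 0 < d) (he : 0 < e) :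
    ∃ (f : ZMod d →+ ZMod (d * e)) (g : ZMod (d * e) →+ ZMod e),
      Function.Injective f ∧ Function.Surjective g ∧ Function.Exact f g := by
  let f : ZMod d →+ ZMod (d * e) := ZMod.lift d ⟨(AddMonoidHom.mulRight ((e : ℤ) : ZMod (d * e))).comp
    (Int.castAddHom (ZMod (d * e))), by
      show ((((d : ℕ) : ℤ) : ZMod (d * e))) * _ = 0
      rw [Int.cast_natCast, Int.cast_natCast, ← Nat.cast_mul]
      exact ZMod.natCast_self (d * e)⟩
  have hf : ∀ a : ℤ, f (a : ZMod d) = ((a * e : ℤ) : ZMod (d * e)) := fun a => by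
    simp [f]
  let g : ZMod (d * e) →+ ZMod e := (ZMod.castHom (dvd_mul_left e d) (ZMod e)).toAddMonoidHom
  have hg : ∀ a : ℤ, g (a : ZMod (d * e)) = (a : ZMod e) := fun a => map_intCast (ZMod.castHom (dvd_mul_left e d) (ZMod e)) a
  refine ⟨f, g, (injective_iff_map_eq_zero f).2 fun x hx => ?_, fun y => ?_, fun z => ⟨fun hz => ?_, ?_⟩⟩
  · obtain ⟨a, rfl⟩ := ZMod.intCast_surjective x
    rw [hf, ZMod.intCast_zmod_eq_zero_iff_dvd, Nat.cast_mul] at hx
    rw [ZMod.intCast_zmod_eq_zero_iff_dvd]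
    exact Int.dvd_of_mul_dvd_mul_right (by exact_mod_cast he.ne') hx
  · obtain ⟨a, rfl⟩ := ZMod.intCast_surjective y
    exact ⟨a, hg a⟩
  · obtain ⟨a, rfl⟩ := ZMod.intCast_surjective z
    rw [hg, ZMod.intCast_zmod_eq_zero_iff_dvd] at hz
    obtain ⟨b, rfl⟩ := hz
    exact ⟨(b : ZMod d), (hf b).trans (congrArg (fun z : ℤ => (z : ZMod (d * e))) (mul_comm b (e : ℤ)))⟩
  · rintro ⟨x, rfl⟩
    obtain ⟨a, rfl⟩ := ZMod.intCast_surjective x
    rw [hf, hg, ZMod.intCast_zmod_eq_zero_iff_dvd]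
    exact dvd_mul_left _ _

/-- Cohomology of a cyclic constant sheaf vanishes if it does for a multiple of the order. -/
theorem subsingleton_H_of_dvd [Nonempty Y] [PreconnectedSpace Y] (n : ℕ) (hn : 0 < n)
    (hY : ∀ q : ℕ, 0 < q → Subsingleton (EtCoh.H Y (EtCoh.const Y (ZMod n)) q)) :
    ∀ (q : ℕ) (d : ℕ), d ∣ n → 0 < q → Subsingleton (EtCoh.H Y (EtCoh.const Y (ZMod d)) q) := by
  intro q
  induction q with
  | zero => intro d _ h; omega
  | succ q ih =>
    intro d hdn _
    obtain ⟨e, rfl⟩ := hdn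
    have hd : 0 < d := pos_of_mul_pos_left hn (Nat.zero_le _)
    have he : 0 < e := pos_of_mul_pos_right hn (Nat.zero_le _)
    obtain ⟨f, g, hf, hg, hfg⟩ := exists_zmod_sequence d e hd he
    let fu : AddCommGrpCat.of (ULift.{u + 1} (ZMod d)) ⟶ AddCommGrpCat.of (ULift.{u + 1} (ZMod (d * e))) :=
      AddCommGrpCat.ofHom (AddEquiv.ulift.symm.toAddMonoidHom.comp (f.comp AddEquiv.ulift.toAddMonoidHom))
    let gu : AddCommGrpCat.of (ULift.{u + 1} (ZMod (d * e))) ⟶ AddCommGrpCat.of (ULift.{u + 1} (ZMod e)) :=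
      AddCommGrpCat.ofHom (AddEquiv.ulift.symm.toAddMonoidHom.comp (g.comp AddEquiv.ulift.toAddMonoidHom))
    have w : fu ≫ gu = 0 := by
      ext x
      exact hfg.apply_apply_eq_zero x.down
    have hT : (ShortComplex.mk fu gu w).ShortExact :=
      { exact := (ShortComplex.ab_exact_iff _).2 fun x hx => by
          obtain ⟨y, hy⟩ := (hfg x.down).1 (congrArg ULift.down hx)
          exact ⟨ULift.up y, congrArg ULift.up hy⟩
        mono_f := (AddCommGrpCat.mono_iff_injective fu).2 fun x y h => ULift.ext _ _ (hf (congrArg ULift.down h))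
        epi_g := (AddCommGrpCat.epi_iff_surjective gu).2 fun y => by
          obtain ⟨x, hx⟩ := hg y.down
          exact ⟨ULift.up x, congrArg ULift.up hx⟩ }
    haveI : PreservesFiniteLimits (cs Y) := by unfold cs constantSheaf; infer_instance
    haveI : (cs Y).IsLeftAdjoint :=
      (constantSheafAdj Y.smallEtaleTopology AddCommGrpCat.{u + 1} (EtCore.topIsTerminal Y)).isLeftAdjoint
    have hS := hT.map_of_exact (cs Y)
    refine subsingleton_of_forall_eq 0 fun x => ?_
    obtain ⟨x₃, hx₃⟩ := Ext.covariant_sequence_exact₁ (EtCoh.const Y ℤ) hS x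
      (@Subsingleton.elim _ (hY (q + 1) q.succ_pos) _ _) (rfl : q + 1 = q + 1)
    rw [← hx₃]
    rcases Nat.eq_zero_or_pos q with rfl | hq
    swap
    · rw [@Subsingleton.elim _ (ih e (dvd_mul_left e d) hq) x₃ 0, Ext.zero_comp]
    obtain ⟨φ, rfl⟩ := (Ext.mk₀_bijective _ _).2 x₃
    obtain ⟨b, hb⟩ := (bijective_const_of_connected ((cs Y).obj (AddCommGrpCat.of (ULift.{u + 1} (ZMod e))))
      (fun m => cst _ _ m) fun _ _ _ ξ v => bijective_germ_cst _ ξ v).2 (φ.hom.app (op (EtCoh.top Y)) (oneSec Y))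
    obtain ⟨a, ha⟩ := hg b.down
    let A := AddCommGrpCat.of (ULift.{u + 1} (ZMod (d * e)))
    let φ₀ : AddCommGrpCat.of (ULift.{u + 1} ℤ) ⟶ (EtCore.gsec Y).obj ((cs Y).obj A) :=
      (AddCommGrpCat.uliftZMultiplesAddEquiv.{u + 1} _).symm (cst A (EtCoh.top Y) (ULift.up a))
    let ψ := ((EtCore.constAdj Y).homEquiv _ _).symm φ₀
    have hψ : ψ.hom.app (op (EtCoh.top Y)) (oneSec Y) = cst A (EtCoh.top Y) (ULift.up a) := by
      have h1 : φ₀ = (EtCore.constAdj Y).unit.app _ ≫ (EtCore.gsec Y).map ψ :=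
        (((EtCore.constAdj Y).homEquiv _ _).apply_symm_apply φ₀).symm.trans (Adjunction.homEquiv_unit _ _ _ _)
      refine (ConcreteCategory.congr_hom h1 (ULift.up 1)).symm.trans ?_
      exact (AddCommGrpCat.uliftZMultiplesAddEquiv.{u + 1} _).apply_symm_apply _
    have hfac : ψ ≫ (cs Y).map gu = φ := by
      refine const_hom_ext ?_
      show ((cs Y).map gu).hom.app _ (ψ.hom.app _ (oneSec Y)) = _
      rw [hψ, cst_map]
      exact (congrArg (cst _ _) (congrArg ULift.up ha : gu (ULift.up a) = b)).trans hb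
    rw [← hfac]
    erw [← Ext.mk₀_comp_mk₀, Ext.comp_assoc_of_second_deg_zero, hS.comp_extClass, Ext.comp_zero]

end Groth.Agent.PointLim24
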