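import Groth.Agent.Lib.PointLim24.PointPush
import Groth.Agent.Lib.PointLim24.CyclicVanish
import Groth.Agent.Lib.BCField24.ConstRed
import Groth.Agent.Lib.BCField24.Main
import Groth.Agent.Lib.BCField24.NormalReduce

/-!
# Sheaves pushed forward from a geometric point under an acyclic morphism
-/

set_option autoImplicit false
set_option linter.style.haveILetI false
set_option linter.unusedSectionVars false
set_option backward.isDefEq.respectTransparency false
set_option backward.isDefEq.respectTransparency.types false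

universe u

open CategoryTheory CategoryTheory.Limits AlgebraicGeometry Opposite

namespace Groth.Agent.PointLim24

open Groth.Agent.EtStalk Groth.Agent.LocAcyc24 Groth.Agent.StrictLim24

variable {Ω : Type u} [Field Ω] [IsSepClosed Ω]

/-- A higher direct image along a composite with a geometric point vanishes with that along the first map. -/
theorem isZero_Rpush_comp_point {S Y : Scheme.{u}} (t : Spec (CommRingCat.of Ω) ⟶ S)
    (e : Y ⟶ Spec (CommRingCat.of Ω)) (F : EtCoh.Ab Y) (q : ℕ) (hz : IsZero ((EtCoh.Rpush e q).obj F)) :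
    IsZero ((EtCoh.Rpush (e ≫ t) q).obj F) := by
  haveI := (EtCoh.pullPushAdj t).isRightAdjoint
  haveI : (EtCoh.push t).Additive := (EtCoh.pullPushAdj t).right_adjoint_additive
  haveI : (EtCoh.push e).Additive := (EtCoh.pullPushAdj e).right_adjoint_additive
  haveI : (EtCoh.push (e ≫ t)).Additive := (EtCoh.pullPushAdj (e ≫ t)).right_adjoint_additive
  haveI : (EtCoh.push t).PreservesEpimorphisms := ⟨fun {A B} g _ => by
    have hS : (ShortComplex.mk (kernel.ι g) g (kernel.condition g)).ShortExact :=
      { exact := ShortComplex.exact_kernel g }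
    obtain ⟨T⟩ := RDerLES.exists_sesRes hS
    obtain ⟨-, ⟨v, hv⟩, -⟩ := RDerLES.exact_sequences (EtCoh.push t) T 0 1 rfl
    have h1 := EtAcyc24.isZero_Rpush_of_acyc t (BCField24.acyc_point Ω (kernel g)) 1 one_pos
    have h0 : Epi (((EtCoh.push t).rightDerived 0).map g) := hv.epi_f (h1.eq_of_tgt _ _)
    exact ((MorphismProperty.epimorphisms _).arrow_mk_iso_iff
      (Arrow.isoMk' _ _ ((EtCoh.push t).rightDerivedZeroIsoSelf.app A)
        ((EtCoh.push t).rightDerivedZeroIsoSelf.app B)
        ((EtCoh.push t).rightDerivedZeroIsoSelf.hom.naturality g).symm)).1 h0⟩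
  haveI : (EtCoh.push t).PreservesHomology := (EtCoh.push t).preservesHomology_of_preservesEpis_and_kernels
  exact ((EtCoh.push t).map_isZero hz).of_iso
    (((ExtDerived.rightDerivedMapIso q (EtCoh.pushComp t e)).symm ≪≫
      RDComp.rightDerivedPostIso (EtCoh.push e) (EtCoh.push t) q).app F)

theorem isSplit_self (K : Type u) [Field K] : IsSplit K K := fun x _ hp =>
  ⟨1, x, IsIdempotentElem.one, hp.one_notMem, rfl⟩

/-- On a separably closed point global sections are constants. -/
theorem bijective_germ_sections (G : EtCoh.Ab (Spec (CommRingCat.of Ω))) (Ω' : Type u) [Field Ω'] [IsSepClosed Ω']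
    (ξ : Spec (CommRingCat.of Ω') ⟶ Spec (CommRingCat.of Ω))
    (v : fib ξ (EtCoh.top (Spec (CommRingCat.of Ω)))) :
    Function.Bijective fun z : G.obj.obj (op (EtCoh.top (Spec (CommRingCat.of Ω)))) => germ ξ G v z := by
  haveI : IsSepClosed (IsLocalRing.ResidueField Ω) := EtDesc24.isSepClosed_residueField Ω
  obtain ⟨i⟩ := BCField24.nonempty_iso_cs G
  let M := (EtCore.gsec (Spec (CommRingCat.of Ω))).obj G
  let k : M → G.obj.obj (op (EtCoh.top (Spec (CommRingCat.of Ω)))) := fun m => i.hom.hom.app _ (cst M (EtCoh.top _) m)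
  have hk : Function.Bijective k :=
    (ConcreteCategory.bijective_of_isIso (((sheafToPresheaf _ _).map i.hom).app _)).comp (bijective_cst_top Ω M)
  refine (Function.Bijective.of_comp_iff _ hk).1 ?_
  have : (fun z => germ ξ G v z) ∘ k = fun m => (EtCoh.stalk ξ).map i.hom (germ ξ _ v (cst M _ m)) :=
    funext fun m => (germ_nat ξ i.hom v _).symm
  rw [this]
  exact (ConcreteCategory.bijective_of_isIso ((EtCoh.stalk ξ).map i.hom)).comp (bijective_germ_cst M ξ v)

/-- For a connected scheme over a separably closed point the unit is an isomorphism. -/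
theorem isIso_unit_point {Y : Scheme.{u}} (e : Y ⟶ Spec (CommRingCat.of Ω)) [Nonempty Y] [PreconnectedSpace Y]
    (G : EtCoh.Ab (Spec (CommRingCat.of Ω))) : IsIso ((EtCoh.pullPushAdj e).unit.app G) := by
  let u := (EtCoh.pullPushAdj e).unit.app G
  let T := EtCoh.top (Spec (CommRingCat.of Ω))
  have hsec : Function.Bijective (sec e G T e (Category.comp_id e)) :=
    bijective_const_of_connected ((EtCoh.pull e).obj G) (fun z => sec e G T e (Category.comp_id e) z)
      fun _ _ _ ξ φ => bijective_germ_sec e G id ξ φ fun v => bijective_germ_sections G _ _ v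
  have hbc : IsIso (topLift e T e (Category.comp_id e)) := by
    refine ⟨MorphismProperty.Over.homMk (pullback.snd T.hom e) (Category.comp_id _), ?_, ?_⟩
    · refine MorphismProperty.Over.Hom.ext ?_
      refine (EtLim24.comp_left' _ _).trans ?_
      exact pullback.lift_snd _ _ _
    · refine MorphismProperty.Over.Hom.ext ?_
      refine (EtLim24.comp_left' _ _).trans ?_
      refine pullback.hom_ext ?_ ?_
      · refine (Category.assoc _ _ _).trans ((congrArg (pullback.snd T.hom e ≫ ·) (topLift_fst e T e _)).trans ?_)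
        exact (pullback.condition.symm.trans (Category.comp_id _)).trans (Category.id_comp _).symm
      · refine (Category.assoc _ _ _).trans ((congrArg (pullback.snd T.hom e ≫ ·) (pullback.lift_snd _ _ _)).trans ?_)
        exact (Category.comp_id _).trans (Category.id_comp _).symm
  haveI := hbc
  have hu : Function.Bijective (u.hom.app (op T)) :=
    (Function.Bijective.of_comp_iff' (ConcreteCategory.bijective_of_isIso
      (((EtCoh.pull e).obj G).obj.map (topLift e T e (Category.comp_id e)).op)) _).1 hsec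
  let x : fib (𝟙 (Spec (CommRingCat.of Ω))) T := Over.homMk (𝟙 _) (Category.comp_id _)
  refine BCField24.isIso_of_bijective_id u ?_
  refine (Function.Bijective.of_comp_iff _ (bijective_germ_sections G _ (𝟙 _) x)).1 ?_
  have : (EtCoh.stalk (𝟙 (Spec (CommRingCat.of Ω)))).map u ∘ (fun z => germ (𝟙 _) G x z) =
      (fun z => germ (𝟙 (Spec (CommRingCat.of Ω))) _ x z) ∘ u.hom.app (op T) :=
    funext fun z => germ_nat _ u x z
  rw [this]
  exact (bijective_germ_sections _ _ (𝟙 _) x).comp hu

variable {X S : Scheme.{u}} [CompactSpace S] [QuasiSeparatedSpace S] (f : X ⟶ S) [QuasiCompact f] [QuasiSeparated f]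
  (hf : EtRest.IsLocallyAcyclic f) (n : ℕ) (hn : 1 < n) (hX : ∀ x : X, (n : X.residueField x) ≠ 0)
  (t : Spec (CommRingCat.of Ω) ⟶ S)
  (h0 : Nonempty (EtCoh.H (pullback f t) (EtCoh.const (pullback f t) (ZMod n)) 0 ≃+ ZMod n))
  (hq : ∀ q : ℕ, 0 < q → Subsingleton (EtCoh.H (pullback f t) (EtCoh.const (pullback f t) (ZMod n)) q))

lemma natCast_ne_zero_of_dvd {d : ℕ} (hd : d ∣ n) {κ : Type u} [Field κ] (h : (n : κ) ≠ 0) : (d : κ) ≠ 0 := by
  obtain ⟨e, rfl⟩ := hd
  rw [Nat.cast_mul] at h
  exact left_ne_zero_of_mul h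

include hf h0 hn in
/-- The unit is an isomorphism on direct images from the point. -/
theorem isIso_unit_push_point (G : EtCoh.Ab (Spec (CommRingCat.of Ω))) :
    IsIso ((EtCoh.pullPushAdj f).unit.app ((EtCoh.push t).obj G)) := by
  let h := pullback.fst f t
  let e := pullback.snd f t
  have sq : IsPullback e h t f := (IsPullback.of_hasPullback f t).flip
  obtain ⟨_, _⟩ := connected_of_H0' n hn h0
  haveI := isIso_unit_point e G
  haveI : IsIso (EtCoh.baseChange0 t f h e sq.w G) :=
    isIso_bc0_of_const f hf t h e sq G id fun _ _ _ ξ v => bijective_germ_sections G _ ξ v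
  have key : (EtCoh.pullPushAdj f).unit.app ((EtCoh.push t).obj G) ≫
      (EtCoh.push f).map (EtCoh.baseChange0 t f h e sq.w G) =
      (EtCoh.push t).map ((EtCoh.pullPushAdj e).unit.app G) ≫ (EtCoh.pushComp t e).hom.app _ ≫
        (EtCoh.pushCongr sq.w).hom.app _ ≫ (EtCoh.pushComp f h).inv.app _ :=
    (Adjunction.homEquiv_unit _ _ _ _).symm.trans (((EtCoh.pullPushAdj f).homEquiv _ _).apply_symm_apply _)
  haveI : IsIso ((EtCoh.pullPushAdj f).unit.app ((EtCoh.push t).obj G) ≫
      (EtCoh.push f).map (EtCoh.baseChange0 t f h e sq.w G)) := by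
    rw [key]
    infer_instance
  exact IsIso.of_isIso_comp_right _ ((EtCoh.push f).map (EtCoh.baseChange0 t f h e sq.w G))

include hf h0 hq hn hX in
/-- The higher direct images of direct images from the point vanish. -/
theorem isZero_Rpush_push_point (G : EtCoh.Ab (Spec (CommRingCat.of Ω))) (hG : EtCoh.KilledBy n G) (q : ℕ)
    (hq' : 0 < q) : IsZero ((EtCoh.Rpush f q).obj ((EtCoh.pull f).obj ((EtCoh.push t).obj G))) := by
  let h := pullback.fst f t
  let e := pullback.snd f t
  have sq : IsPullback e h t f := (IsPullback.of_hasPullback f t).flip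
  obtain ⟨_, _⟩ := connected_of_H0' n hn h0
  obtain ⟨_, _⟩ := qc_qs f t h e sq
  haveI : QuasiCompact e := MorphismProperty.of_isPullback sq.flip ‹QuasiCompact f›
  haveI : QuasiSeparated e := MorphismProperty.of_isPullback sq.flip ‹QuasiSeparated f›
  have hn0 : 0 < n := by omega
  have hk : ∀ a, 1 ≤ a → a < q → IsZero ((EtCoh.Rpush h a).obj ((EtCoh.pull e).obj G)) := fun a ha _ =>
    BCField24.isZero_Rpush_pull_of_const h e a n hn0
      (fun d hd => isZero_Rpush_const f hf t h e sq d (fun x => natCast_ne_zero_of_dvd n hd (hX x)) a ha) G hG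
  have he : IsZero ((EtCoh.Rpush e q).obj ((EtCoh.pull e).obj G)) :=
    BCField24.isZero_Rpush_pull_of_const e e q n hn0
      (fun d hd => (isZero_Rpush_iff (isSplit_self Ω) e _ q).2 (subsingleton_H_of_dvd n hn0 hq q d hd hq')) G hG
  have hc : IsZero ((EtCoh.Rpush (h ≫ f) q).obj ((EtCoh.pull e).obj G)) := by
    rw [← sq.w]
    exact isZero_Rpush_comp_point t e _ q he
  haveI : IsIso (EtCoh.baseChange0 t f h e sq.w G) :=
    isIso_bc0_of_const f hf t h e sq G id fun _ _ _ ξ v => bijective_germ_sections G _ ξ v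
  exact (BCField24.isZero_Rpush_push f h (h ≫ f) rfl q _ hq' hk hc).of_iso
    ((EtCoh.Rpush f q).mapIso (asIso (EtCoh.baseChange0 t f h e sq.w G)))

end Groth.Agent.PointLim24
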