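import Groth.Agent.Lib.PointLim24.Acyclic
import Groth.Agent.Lib.LocAcyc24.Rel

/-!
# An affine scheme with the `ZMod n`-sections of a point is connected
-/

set_option autoImplicit false
set_option linter.style.haveILetI false
set_option linter.unusedSectionVars false
set_option backward.isDefEq.respectTransparency false
set_option backward.isDefEq.respectTransparency.types false

universe u

open CategoryTheory CategoryTheory.Limits AlgebraicGeometry Opposite CategoryTheory.Abelian

namespace Groth.Agent.PointLim24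

open Groth.Agent.EtStalk Groth.Agent.LocConst24

/-- Cohomology in degree zero is the group of global sections. -/
noncomputable def H0Sec (Q : Scheme.{u}) (F : EtCoh.Ab Q) :
    EtCoh.H Q F 0 ≃ F.obj.obj (op (EtCoh.top Q)) :=
  (Equiv.ofBijective _ (Ext.mk₀_bijective _ _)).symm.trans
    (((EtCore.constAdj Q).homEquiv _ _).trans (AddCommGrpCat.uliftZMultiplesAddEquiv.{u + 1} _).toEquiv)

/-- An affine scheme whose constant sheaf has the sections of a point is connected. -/
theorem connected_of_H0 (C : Type u) [CommRing C] (n : ℕ) (hn : 1 < n)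
    (h0 : Nonempty (EtCoh.H (Spec (CommRingCat.of C)) (EtCoh.const (Spec (CommRingCat.of C)) (ZMod n)) 0 ≃+ ZMod n)) :
    Nonempty (Spec (CommRingCat.of C) : Scheme.{u}) ∧ PreconnectedSpace (PrimeSpectrum C) := by
  refine ⟨LocAcyc24.nonempty_of_H_zero_ne hn h0, preconnectedSpace_iff_clopen.2 fun s hs => ?_⟩
  obtain ⟨e, he, rfl⟩ := PrimeSpectrum.isClopen_iff.1 hs
  by_contra hne
  push Not at hne
  haveI : Fact (1 < n) := ⟨hn⟩
  haveI : NeZero n := ⟨by omega⟩
  let Q := Spec (CommRingCat.of C)
  let F := EtCoh.const Q (ZMod n)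
  obtain ⟨eH⟩ := h0
  let eS : F.obj.obj (op (EtCoh.top Q)) ≃ ZMod n := (H0Sec Q F).symm.trans eH.toEquiv
  let d : Fin 2 → C := ![e, 1 - e]
  have hd : ∀ k, IsIdempotentElem (d k) := fun k => by
    fin_cases k
    exacts [he, he.one_sub]
  have hdisj : ∀ j k, j ≠ k → d j * d k = 0 := fun j k hjk => by
    fin_cases j <;> fin_cases k <;> simp [d, mul_sub, sub_mul, he.eq] at hjk ⊢
  have hcov : ∀ p : PrimeSpectrum C, ∃ k, p ∈ PrimeSpectrum.basicOpen (d k) := fun p => by
    by_cases hp : e ∈ p.asIdeal
    · exact ⟨1, fun h1 => p.isPrime.ne_top ((Ideal.eq_top_iff_one _).2 (by simpa [d] using p.asIdeal.add_mem hp h1))⟩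
    · exact ⟨0, hp⟩
  let toTop : ∀ k, basic (d k) ⟶ EtCoh.top Q := fun k =>
    MorphismProperty.Over.homMk (basic (d k)).hom (Category.comp_id _)
  choose glue hglue using fun a : Fin 2 → ZMod n =>
    exists_glue d hdisj hcov F (fun k => constSec Q (ZMod n) (basic (d k)) (a k)) toTop
  have hne' : ∀ k, ∃ y : (basic (d k)).left, True := fun k => by
    obtain ⟨p, hp⟩ : ∃ p : PrimeSpectrum C, p ∈ PrimeSpectrum.basicOpen (d k) := by
      fin_cases k
      · by_contra h
        push Not at h
        obtain ⟨p, hp⟩ := hne.1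
        exact h p hp
      · obtain ⟨p, hp⟩ := (Set.ne_univ_iff_exists_notMem _).1 hne.2
        refine ⟨p, fun h1 => ?_⟩
        have hpe : e ∈ p.asIdeal := not_not.1 hp
        exact p.isPrime.ne_top ((Ideal.eq_top_iff_one _).2 (by simpa [d] using p.asIdeal.add_mem hpe h1))
    obtain ⟨y, -⟩ := (PrimeSpectrum.localization_away_comap_range (Localization.Away (d k)) (d k)).ge hp
    exact ⟨y, trivial⟩
  have hinj : Function.Injective glue := fun a b hab => funext fun k => by
    obtain ⟨y, -⟩ := hne' k
    obtain ⟨φ, -⟩ := exists_fib (basic (d k)) y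
    exact (bijAt_constSec Q (ZMod n) (basic (d k)) _ _ φ).1
      (congrArg (germ _ F φ) (((hglue a k).symm.trans (congrArg (F.obj.map (toTop k).op) hab)).trans (hglue b k)))
  haveI : Finite (F.obj.obj (op (EtCoh.top Q))) := Finite.of_equiv _ eS.symm
  have hc := Nat.card_le_card_of_injective glue hinj
  rw [Nat.card_congr eS, Nat.card_zmod, Nat.card_fun, Nat.card_zmod, Nat.card_fin] at hc
  nlinarith [hc]

end Groth.Agent.PointLim24
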