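import Groth.Agent.Lib.PointLim24.Section
import Groth.Agent.Lib.EtSite.Sheaf
import Groth.Agent.Lib.EtStalk.Agree
import Groth.Prelude.Def_EtCore
import Mathlib.Algebra.Category.Grp.EpiMono
import Mathlib.CategoryTheory.Preadditive.Projective.Basic
import Mathlib.Algebra.Homology.DerivedCategory.Ext.EnoughProjectives

/-!
# Sheaves on a locally constant spectrum have no cohomology and are determined by global sections
-/

set_option autoImplicit false
set_option linter.style.haveILetI false
set_option backward.isDefEq.respectTransparency.types false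

universe u

open CategoryTheory CategoryTheory.Limits AlgebraicGeometry Opposite

namespace Groth.Agent.PointLim24

open Groth.Agent.EtStalk

variable {K B : Type u} [Field K] [IsSepClosed K] [CommRing B] [Algebra K B] (hB : IsSplit K B)

/-- Glueing over a finite disjoint family of clopens. -/
theorem exists_glue {n : ℕ} (d : Fin n → B) (hdisj : ∀ j k, j ≠ k → d j * d k = 0)
    (hcov : ∀ p : PrimeSpectrum B, ∃ k, p ∈ PrimeSpectrum.basicOpen (d k))
    (F : EtCoh.Ab (Spec (CommRingCat.of B))) (t : ∀ k, F.obj.obj (op (basic (d k))))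
    (top : ∀ k, basic (d k) ⟶ EtCoh.top (Spec (CommRingCat.of B))) :
    ∃ x : F.obj.obj (op (EtCoh.top (Spec (CommRingCat.of B)))), ∀ k, F.obj.map (top k).op x = t k := by
  have htop : ∀ k (y : (basic (d k)).left), (top k).left y = (basic (d k)).hom y := fun k y =>
    congrArg (fun m : (basic (d k)).left ⟶ Spec (CommRingCat.of B) => m y)
      ((Category.comp_id _).symm.trans (MorphismProperty.Over.w (top k)))
  have hrange : ∀ k, (Set.range (basic (d k)).hom : Set (PrimeSpectrum B)) =
      (PrimeSpectrum.basicOpen (d k) : Set (PrimeSpectrum B)) := fun k => by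
    exact PrimeSpectrum.localization_away_comap_range (Localization.Away (d k)) (d k)
  have hcovs : Sieve.generate (Presieve.ofArrows (fun k => basic (d k)) top) ∈
      Scheme.smallEtaleTopology _ (EtCoh.top (Spec (CommRingCat.of B))) := by
    rw [EtSite.mem_et_iff]
    intro p
    obtain ⟨k, hk⟩ := hcov p
    obtain ⟨y, hy⟩ : p ∈ Set.range (basic (d k)).hom := (hrange k).ge hk
    exact ⟨_, top k, y, Sieve.le_generate _ _ _ (Presieve.ofArrows.mk k), (htop k y).trans hy⟩
  have hsh := (Presieve.isSheafFor_iff_generate _).2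
    (((isSheaf_iff_isSheaf_of_type _ _).1
      ((Presheaf.isSheaf_iff_isSheaf_forget _ F.obj (forget _)).1 F.property)) _ hcovs)
  rw [Presieve.isSheafFor_arrows_iff] at hsh
  obtain ⟨x, hx, -⟩ := hsh t fun j k Z gj gk h => by
    by_cases hjk : j = k
    · subst hjk
      haveI : IsOpenImmersion (basic (d j)).hom := IsOpenImmersion.of_isLocalization (d j)
      haveI : Mono (top j) := by
        haveI : Mono ((top j).left ≫ (EtCoh.top (Spec (CommRingCat.of B))).hom) := by
          rw [MorphismProperty.Over.w (top j)]; infer_instance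
        haveI : Mono (top j).left := mono_of_mono (top j).left (EtCoh.top (Spec (CommRingCat.of B))).hom
        exact (MorphismProperty.Over.forget _ _ _).mono_of_mono_map
          ((Over.forget _).mono_of_mono_map (inferInstanceAs (Mono (top j).left)))
      rw [(cancel_mono (top j)).1 h]
    · have : IsEmpty Z.left := ⟨fun z => by
        have e : (top j).left (gj.left z) = (top k).left (gk.left z) :=
          congrArg (fun q : Z ⟶ EtCoh.top _ => q.left z) h
        rw [htop, htop] at e
        have h1 : (basic (d j)).hom (gj.left z) ∈ (PrimeSpectrum.basicOpen (d j) : Set (PrimeSpectrum B)) :=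
          (hrange j).le ⟨_, rfl⟩
        have h2 : (basic (d j)).hom (gj.left z) ∈ (PrimeSpectrum.basicOpen (d k) : Set (PrimeSpectrum B)) :=
          e ▸ (hrange k).le ⟨_, rfl⟩
        have h3 : (basic (d j)).hom (gj.left z) ∈ PrimeSpectrum.basicOpen (d j * d k) := by
          rw [PrimeSpectrum.basicOpen_mul]; exact ⟨h1, h2⟩
        rw [hdisj j k hjk, PrimeSpectrum.basicOpen_zero] at h3
        exact h3⟩
      exact eq_of_agree F fun z => isEmptyElim z
  exact ⟨x, hx⟩

/-- A finite cover by clopens has a disjoint refinement. -/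
theorem exists_disjoint {n : ℕ} (e : Fin n → B) (he : ∀ k, IsIdempotentElem (e k))
    (hcov : ∀ p : PrimeSpectrum B, ∃ k, p ∈ PrimeSpectrum.basicOpen (e k)) :
    ∃ d : Fin n → B, (∀ k, IsIdempotentElem (d k)) ∧ (∀ k, e k ∣ d k) ∧
      (∀ j k, j ≠ k → d j * d k = 0) ∧ ∀ p : PrimeSpectrum B, ∃ k, p ∈ PrimeSpectrum.basicOpen (d k) := by
  classical
  let d : Fin n → B := fun k => e k * ∏ j ∈ Finset.univ.filter (· < k), (1 - e j)
  have hkey : ∀ j k, j < k → d j * d k = 0 := fun j k h => by
    have h1 : (1 - e j) ∣ ∏ i ∈ Finset.univ.filter (· < k), (1 - e i) :=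
      Finset.dvd_prod_of_mem _ (Finset.mem_filter.2 ⟨Finset.mem_univ _, h⟩)
    obtain ⟨r, hr⟩ := h1
    simp only [d, hr]
    have h0 : e j * (1 - e j) = 0 := by rw [mul_sub, mul_one, (he j).eq, sub_self]
    linear_combination (e k * r * ∏ i ∈ Finset.univ.filter (· < j), (1 - e i)) * h0
  refine ⟨d, fun k => ?_, fun k => dvd_mul_right _ _, fun j k h => ?_, fun p => ?_⟩
  · refine (he k).mul ?_
    show _ * _ = _
    rw [← Finset.prod_mul_distrib]
    exact Finset.prod_congr rfl fun j _ => (he j).one_sub
  · rcases lt_or_gt_of_ne h with h | h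
    · exact hkey j k h
    · rw [mul_comm]; exact hkey k j h
  · let s := Finset.univ.filter fun k => p ∈ PrimeSpectrum.basicOpen (e k)
    have hs : s.Nonempty := by
      obtain ⟨k, hk⟩ := hcov p
      exact ⟨k, Finset.mem_filter.2 ⟨Finset.mem_univ _, hk⟩⟩
    refine ⟨s.min' hs, fun h => ?_⟩
    haveI := p.isPrime
    rcases p.isPrime.mem_or_mem h with h1 | h1
    · exact (Finset.mem_filter.1 (s.min'_mem hs)).2 h1
    · obtain ⟨j, hj, hjp⟩ := p.isPrime.prod_mem_iff.1 h1
      refine p.isPrime.ne_top ((Ideal.eq_top_iff_one _).2 ?_)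
      have hje : e j ∈ p.asIdeal := by
        by_contra hje
        exact absurd (s.min'_le j (Finset.mem_filter.2 ⟨Finset.mem_univ _, hje⟩))
          (not_le.2 (Finset.mem_filter.1 hj).2)
      simpa using p.asIdeal.add_mem hje hjp

include hB in
/-- Epimorphisms of sheaves are surjective on global sections. -/
theorem surjective_top_of_epi {F G : EtCoh.Ab (Spec (CommRingCat.of B))} (a : F ⟶ G) [Epi a] :
    Function.Surjective (a.hom.app (op (EtCoh.top (Spec (CommRingCat.of B))))) := by
  intro s
  let T := EtCoh.top (Spec (CommRingCat.of B))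
  let toTop : ∀ e : B, basic e ⟶ T := fun e =>
    MorphismProperty.Over.homMk (basic e).hom (Category.comp_id _)
  haveI : Sheaf.IsLocallySurjective a := (Sheaf.isLocallySurjective_iff_epi' _ a).2 inferInstance
  have hsv := Presheaf.imageSieve_mem (Scheme.smallEtaleTopology _) a.hom (U := op T) s
  rw [EtSite.mem_et_iff] at hsv
  have hloc : ∀ p : PrimeSpectrum B, ∃ e : B, IsIdempotentElem e ∧ p ∈ PrimeSpectrum.basicOpen e ∧
      ∃ t, a.hom.app (op (basic e)) t = G.obj.map (toTop e).op s := fun p => by
    obtain ⟨W, g, w, ⟨t, ht⟩, hw⟩ := hsv p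
    obtain ⟨e, σ, he, hpe, -⟩ := exists_section hB W w
    have hwp : W.hom w = p := by
      rw [← hw]
      exact congrArg (fun m : W.left ⟶ Spec (CommRingCat.of B) => m w)
        ((MorphismProperty.Over.w g).symm.trans (Category.comp_id _))
    refine ⟨e, he, hwp ▸ hpe, F.obj.map σ.op t, ?_⟩
    rw [NatTrans.naturality_apply, ht, ← Functor.map_comp_apply, ← op_comp]
    rw [show σ ≫ g = toTop e from (EtCore.topIsTerminal _).hom_ext _ _]
  choose e he hpe t ht using hloc
  obtain ⟨u, hu⟩ := IsCompact.elim_finite_subcover (isCompact_univ (X := PrimeSpectrum B))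
    (fun p => (PrimeSpectrum.basicOpen (e p) : Set (PrimeSpectrum B))) (fun p => (PrimeSpectrum.basicOpen (e p)).isOpen)
    (fun p _ => Set.mem_iUnion.2 ⟨p, hpe p⟩)
  let f : Fin u.card → PrimeSpectrum B := fun k => (u.equivFin.symm k).1
  obtain ⟨d, hd, hde, hdisj, hdcov⟩ := exists_disjoint (fun k => e (f k)) (fun k => he _) fun p => by
    obtain ⟨q, hq, hpq⟩ := Set.mem_iUnion₂.1 (hu (Set.mem_univ p))
    exact ⟨u.equivFin ⟨q, hq⟩, by simpa [f] using hpq⟩
  have hσ : ∀ k, ∃ σ : basic (d k) ⟶ basic (e (f k)), True := fun k => by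
    obtain ⟨r, hr⟩ := hde k
    have hu' : IsUnit (algebraMap B (Localization.Away (d k)) (e (f k))) := by
      have := IsLocalization.Away.algebraMap_isUnit (S := Localization.Away (d k)) (d k)
      exact isUnit_of_dvd_unit ⟨algebraMap B (Localization.Away (d k)) r,
        (congrArg (algebraMap B (Localization.Away (d k))) hr).trans (map_mul _ _ _)⟩ this
    let l : Localization.Away (e (f k)) →+* Localization.Away (d k) := IsLocalization.Away.lift (e (f k)) hu'
    refine ⟨MorphismProperty.Over.homMk (Spec.map (CommRingCat.ofHom l)) ?_, trivial⟩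
    show Spec.map _ ≫ Spec.map _ = Spec.map _
    rw [← Spec.map_comp]
    exact congrArg Spec.map (CommRingCat.hom_ext (IsLocalization.Away.lift_comp (e (f k)) hu'))
  choose σ _ using hσ
  obtain ⟨x, hx⟩ := exists_glue d hdisj hdcov F (fun k => F.obj.map (σ k).op (t (f k))) (fun k => toTop (d k))
  refine ⟨x, ?_⟩
  refine eq_of_agree G fun p => ?_
  obtain ⟨k, hk⟩ := hdcov p
  obtain ⟨y, hy⟩ : (p : PrimeSpectrum B) ∈ Set.range (basic (d k)).hom :=
    (PrimeSpectrum.localization_away_comap_range (Localization.Away (d k)) (d k)).ge hk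
  refine ⟨_, toTop (d k), ⟨y, hy⟩, ?_⟩
  show G.obj.map (toTop (d k)).op (a.hom.app (op T) x) = G.obj.map (toTop (d k)).op s
  rw [← NatTrans.naturality_apply, hx k, NatTrans.naturality_apply, ht (f k), ← Functor.map_comp_apply, ← op_comp]
  rw [show σ k ≫ toTop (e (f k)) = toTop (d k) from (EtCore.topIsTerminal _).hom_ext _ _]

include hB in
/-- Global sections are exact. -/
theorem preservesEpimorphisms_gsec : (EtCore.gsec (Spec (CommRingCat.of B))).PreservesEpimorphisms :=
  ⟨fun a _ => (AddCommGrpCat.epi_iff_surjective _).2 (surjective_top_of_epi hB a)⟩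

include hB in
/-- Sheaves have no higher cohomology. -/
theorem subsingleton_H (G : EtCoh.Ab (Spec (CommRingCat.of B))) (q : ℕ) (hq : 0 < q) :
    Subsingleton (EtCoh.H (Spec (CommRingCat.of B)) G q) := by
  obtain ⟨q, rfl⟩ := Nat.exists_eq_succ_of_ne_zero hq.ne'
  haveI := preservesEpimorphisms_gsec hB
  haveI : Projective (AddCommGrpCat.of (ULift.{u + 1} ℤ)) := ⟨fun {E H} f g _ => by
    obtain ⟨x, hx⟩ := (AddCommGrpCat.epi_iff_surjective g).1 inferInstance (f ⟨1⟩)
    refine ⟨AddCommGrpCat.ofHom ((zmultiplesHom E x).comp AddEquiv.ulift.toAddMonoidHom), ?_⟩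
    refine AddCommGrpCat.ext fun z => ?_
    show g (z.down • x) = f z
    rw [map_zsmul, hx, ← map_zsmul]
    exact congrArg f (ULift.ext _ _ (by show z.down • (1 : ℤ) = z.down; simp))⟩
  haveI : Projective (EtCoh.const (Spec (CommRingCat.of B)) ℤ) :=
    (EtCore.constAdj (Spec (CommRingCat.of B))).map_projective _ inferInstance
  exact subsingleton_of_forall_eq 0 fun x => Abelian.Ext.eq_zero_of_projective x

include hB in
/-- A sheaf without global sections vanishes. -/
theorem isZero_of_top (G : EtCoh.Ab (Spec (CommRingCat.of B)))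
    (h : Subsingleton (G.obj.obj (op (EtCoh.top (Spec (CommRingCat.of B)))))) : IsZero G := by
  let T := EtCoh.top (Spec (CommRingCat.of B))
  have hzero : ∀ (U : (Spec (CommRingCat.of B)).Etale) (s : G.obj.obj (op U)), s = 0 := fun U s => by
    refine eq_of_agree G fun w => ?_
    obtain ⟨e, σ, he, hwe, hσw⟩ := exists_section hB U w
    obtain ⟨y, hy⟩ : U.hom w ∈ Set.range (basic e).hom :=
      (PrimeSpectrum.localization_away_comap_range (Localization.Away e) e).ge hwe
    refine ⟨_, σ, ⟨y, hσw y hy⟩, ?_⟩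
    show G.obj.map σ.op s = G.obj.map σ.op 0
    rw [map_zero]
    let d : Fin 2 → B := ![e, 1 - e]
    have hdisj : ∀ j k, j ≠ k → d j * d k = 0 := fun j k hjk => by
      fin_cases j <;> fin_cases k <;> simp [d, mul_sub, sub_mul, he.eq] at hjk ⊢
    obtain ⟨x, hx⟩ := exists_glue d hdisj (fun p => by
        by_cases hp : e ∈ p.asIdeal
        · exact ⟨1, fun h1 => p.isPrime.ne_top ((Ideal.eq_top_iff_one _).2 (by simpa [d] using p.asIdeal.add_mem hp h1))⟩
        · exact ⟨0, hp⟩)
      G (Fin.cons (α := fun k => G.obj.obj (op (basic (d k)))) (G.obj.map σ.op s) (fun _ => 0))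
      (fun k => MorphismProperty.Over.homMk (basic (d k)).hom (Category.comp_id _))
    refine ((hx 0).symm).trans ?_
    rw [Subsingleton.elim x 0, map_zero]
    rfl
  rw [isZero_iff_stalk]
  intro Ω _ _ ξ
  refine @AddCommGrpCat.isZero_of_subsingleton _ (subsingleton_of_forall_eq 0 fun p => ?_)
  obtain ⟨U, x, s, rfl⟩ := germ_surjective ξ G p
  rw [hzero U s, map_zero]

end Groth.Agent.PointLim24
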