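import Groth.Agent.Lib.PointLim24.Theta

/-!
# Degree zero base change at a stalk, on the strict localizations
-/

set_option autoImplicit false
set_option linter.style.haveILetI false
set_option linter.unusedSectionVars false
set_option backward.isDefEq.respectTransparency false
set_option backward.isDefEq.respectTransparency.types false

universe u

open CategoryTheory CategoryTheory.Limits AlgebraicGeometry Opposite

namespace Groth.Agent.PointLim24

open Groth.Agent.EtStalk Groth.Agent.StrictLim24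

/-- Specialisation of stalks along an extension of separably closed fields, on germs. -/
theorem exists_stalkRes {S : Scheme.{u}} {K L : Type u} [Field K] [IsSepClosed K] [Field L] [IsSepClosed L]
    (a : Spec (CommRingCat.of L) ⟶ Spec (CommRingCat.of K)) (x : Spec (CommRingCat.of K) ⟶ S)
    (x' : Spec (CommRingCat.of L) ⟶ S) (hx : a ≫ x = x') (F : EtCoh.Ab S) :
    ∃ res : (EtCoh.stalk x).obj F → (EtCoh.stalk x').obj F, Function.Bijective res ∧
      ∀ (V : S.Etale) (v : fib x V) (v' : fib x' V) t, v'.left = a ≫ v.left →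
        res (germ x F v t) = germ x' F v' t := by
  subst hx
  exact ⟨LocConst24.stalkRes a x F, LocConst24.bijective_stalkRes a x F, fun V v v' t hv =>
    (LocConst24.stalkRes_germ a x F v t).trans
      (congrArg (fun r : fib (a ≫ x) V => germ (a ≫ x) F r t) (Over.OverMorphism.ext hv.symm))⟩

/-- Pulling back a section, then another pullback. -/
theorem sec_sec {A B C : Scheme.{u}} (m : A ⟶ B) (u : B ⟶ C) (w : A ⟶ C) (hm : m ≫ u = w) (G : EtCoh.Ab C)
    (U : C.Etale) (y : B ⟶ U.left) (hy : y ≫ U.hom = u) (y' : A ⟶ U.left) (hy' : y' ≫ U.hom = w)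
    (hyy : m ≫ y = y') (t : G.obj.obj (op U)) :
    sec m ((EtCoh.pull u).obj G) (EtCoh.top B) m (Category.comp_id _) (sec u G U y hy t) =
      ((EtLim24.pullT m u w hm).hom.app G).hom.app (op (EtCoh.top A)) (sec w G U y' hy' t) := by
  rw [sec_apply u]
  refine (sec_map m ((EtCoh.pull u).obj G) (topLift u U y hy) m (Category.comp_id _)
    (m ≫ (topLift u U y hy).left) ?_ rfl _).trans (sec_unit m u w hm G U _ _ y' hy' ?_ t)
  · refine (Category.assoc _ _ _).trans ?_
    exact (congrArg (m ≫ ·) (MorphismProperty.Over.w (topLift u U y hy))).trans (Category.comp_id m)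
  · refine (Category.assoc _ _ _).trans ?_
    exact (congrArg (m ≫ ·) (topLift_fst u U y hy)).trans hyy

section square

variable {X S Y T : Scheme.{u}} (f : X ⟶ S) (g : T ⟶ S) (h : Y ⟶ X) (e : Y ⟶ T) (w : e ≫ g = h ≫ f)

/-- Degree zero base change on a germ. -/
theorem bc0_germ {Ω : Type u} [Field Ω] [IsSepClosed Ω] (ξ : Spec (CommRingCat.of Ω) ⟶ X) (G : EtCoh.Ab T)
    (V : S.Etale) (v : fib (ξ ≫ f) V) (t : G.obj.obj (op ((EtCoh.bc g).obj V))) :
    (EtCoh.stalk ξ).map (EtCoh.baseChange0 g f h e w G)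
        (stalkPull f ξ ((EtCoh.push g).obj G) (germ (ξ ≫ f) ((EtCoh.push g).obj G) v t)) =
      germ ξ ((EtCoh.push h).obj ((EtCoh.pull e).obj G)) (liftFib f ξ v)
        (((EtCoh.pull e).obj G).obj.map (sqHom f g h e w V).op
          (((EtCoh.pullPushAdj e).unit.app G).hom.app (op ((EtCoh.bc g).obj V)) t)) := by
  refine Eq.trans ?_ (congrArg (germ ξ ((EtCoh.push h).obj ((EtCoh.pull e).obj G)) (liftFib f ξ v))
    (sqPush_app f g h e w ((EtCoh.pullPushAdj e).unit.app G) V t))
  have hg := StalkLim24.φst_germ f g h e w ξ (𝟙 ((EtCoh.pull e).obj G)) v t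
  rw [Adjunction.homEquiv_id] at hg
  refine Eq.trans ?_ hg
  have e1 : EtCoh.baseChange0 g f h e w G ≫ (EtCoh.push h).map (𝟙 ((EtCoh.pull e).obj G)) =
      EtCoh.baseChange0 g f h e w G := by
    rw [CategoryTheory.Functor.map_id, Category.comp_id]
  exact congrArg (fun z => (EtCoh.stalk ξ).map z
    (stalkPull f ξ ((EtCoh.push g).obj G) (germ (ξ ≫ f) ((EtCoh.push g).obj G) v t))) e1.symm

/-- Sections on the square over a point of the base. -/
theorem sec_sq (G : EtCoh.Ab T) {A : Scheme.{u}} (a : A ⟶ Y) (V : S.Etale)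
    (yX : A ⟶ ((EtCoh.bc h).obj ((EtCoh.bc f).obj V)).left)
    (hyX : yX ≫ ((EtCoh.bc h).obj ((EtCoh.bc f).obj V)).hom = a) (y : A ⟶ ((EtCoh.bc g).obj V).left)
    (hy : y ≫ ((EtCoh.bc g).obj V).hom = a ≫ e)
    (hyy : y ≫ pullback.fst V.hom g =
      yX ≫ pullback.fst ((EtCoh.bc f).obj V).hom h ≫ pullback.fst V.hom f)
    (t : G.obj.obj (op ((EtCoh.bc g).obj V))) :
    sec a ((EtCoh.pull e).obj G) ((EtCoh.bc h).obj ((EtCoh.bc f).obj V)) yX hyX
        (((EtCoh.pull e).obj G).obj.map (sqHom f g h e w V).op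
          (((EtCoh.pullPushAdj e).unit.app G).hom.app (op ((EtCoh.bc g).obj V)) t)) =
      ((EtLim24.pullT a e (a ≫ e) rfl).hom.app G).hom.app (op (EtCoh.top A))
        (sec (a ≫ e) G ((EtCoh.bc g).obj V) y hy t) := by
  have hy₂ : (yX ≫ (sqHom f g h e w V).left) ≫ ((EtCoh.bc e).obj ((EtCoh.bc g).obj V)).hom = a := by
    refine (Category.assoc _ _ _).trans ?_
    exact (congrArg (yX ≫ ·) (MorphismProperty.Over.w (sqHom f g h e w V))).trans hyX
  refine (sec_map a ((EtCoh.pull e).obj G) (sqHom f g h e w V) yX hyX _ hy₂ rfl _).trans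
    (sec_unit a e (a ≫ e) rfl G ((EtCoh.bc g).obj V) _ hy₂ y hy ?_ t)
  refine EtLim24.left_ext ?_ ?_
  · refine Eq.trans ?_ hyy.symm
    exact ((Category.assoc _ _ _).trans (Category.assoc _ _ _)).trans (congrArg (yX ≫ ·) (sqHom_fst f g h e w V))
  · refine Eq.trans ?_ hy.symm
    refine (Category.assoc _ _ _).trans ?_
    refine (congrArg ((yX ≫ (sqHom f g h e w V).left) ≫ ·) pullback.condition).trans ?_
    exact (Category.assoc _ _ _).symm.trans (congrArg (· ≫ e) hy₂)

end square

lemma hom_inv_apply {A B : AddCommGrpCat.{u + 1}} (φ : A ⟶ B) [IsIso φ] (z : A) : inv φ (φ z) = z :=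
  (ConcreteCategory.comp_apply φ (inv φ) z).symm.trans
    ((congrArg (fun r : A ⟶ A => r z) (IsIso.hom_inv_id φ)).trans (ConcreteCategory.id_apply z))

lemma bij_iff_of_comm {A B C D E P : Type*} (r : A → B) (q : B → C) (θ : C → D) (θ' : A → E) (k : E → P)
    (j : P → D) (hr : Function.Bijective r) (hθ : Function.Bijective θ) (hθ' : Function.Bijective θ')
    (hj : Function.Bijective j) (hcomm : ∀ a, θ (q (r a)) = j (k (θ' a))) :
    Function.Bijective q ↔ Function.Bijective k := by
  have h : θ ∘ q ∘ r = j ∘ k ∘ θ' := funext hcomm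
  have h1 := (Function.Bijective.of_comp_iff' hθ (q ∘ r)).trans (Function.Bijective.of_comp_iff q hr)
  have h2 := (Function.Bijective.of_comp_iff' hj (k ∘ θ')).trans (Function.Bijective.of_comp_iff k hθ')
  exact h1.symm.trans ((iff_of_eq (congrArg Function.Bijective h)).trans h2)

variable {X S Y T : Scheme.{u}} (f : X ⟶ S) (g : T ⟶ S) (h : Y ⟶ X) (e : Y ⟶ T) (w : e ≫ g = h ≫ f)
  [QuasiCompact g] [QuasiSeparated g] [QuasiCompact h] [QuasiSeparated h]
  (s : S) (RS : Type u) [CommRing RS] [IsLocalRing RS] [Algebra (S.presheaf.stalk s) RS]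
  [IsLocalHom (algebraMap (S.presheaf.stalk s) RS)] [Hensel.IsStrictHenselization (S.presheaf.stalk s) RS]
  [HenselianLocalRing RS] [IsSepClosed (IsLocalRing.ResidueField RS)]
  (x : X) (RX : Type u) [CommRing RX] [IsLocalRing RX] [Algebra (X.presheaf.stalk x) RX]
  [IsLocalHom (algebraMap (X.presheaf.stalk x) RX)] [Hensel.IsStrictHenselization (X.presheaf.stalk x) RX]
  [HenselianLocalRing RX] [IsSepClosed (IsLocalRing.ResidueField RX)]
  (ψ : RS →+* RX) [IsLocalHom ψ]

/-- The map between the strict localizations of a square. -/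
noncomputable abbrev locMap
    (hψ : Spec.map (CommRingCat.ofHom ψ) ≫ Hens2.specOf S s RS = Hens2.specOf X x RX ≫ f) :
    pullback h (Hens2.specOf X x RX) ⟶ pullback g (Hens2.specOf S s RS) :=
  pullback.lift (pullback.fst h (Hens2.specOf X x RX) ≫ e)
    (pullback.snd h (Hens2.specOf X x RX) ≫ Spec.map (CommRingCat.ofHom ψ)) (by
      rw [Category.assoc, w, Category.assoc, hψ, pullback.condition_assoc])

lemma closedPt_comp :
    Spec.map (CommRingCat.ofHom (IsLocalRing.ResidueField.map ψ)) ≫ closedPt RS =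
      closedPt RX ≫ Spec.map (CommRingCat.ofHom ψ) := by
  simp only [closedPt, ← Spec.map_comp]
  rfl

/-- The germ formula through the two strict localizations. -/
theorem exists_res_theta (hψ : Spec.map (CommRingCat.ofHom ψ) ≫ Hens2.specOf S s RS = Hens2.specOf X x RX ≫ f)
    (G : EtCoh.Ab T) :
    ∃ (res : (EtCoh.stalk (closedPt RS ≫ Hens2.specOf S s RS)).obj ((EtCoh.push g).obj G) →
        (EtCoh.stalk ((closedPt RX ≫ Hens2.specOf X x RX) ≫ f)).obj ((EtCoh.push g).obj G))
      (θS : (EtCoh.stalk (closedPt RS ≫ Hens2.specOf S s RS)).obj ((EtCoh.push g).obj G) →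
        ((EtCoh.pull (pullback.fst g (Hens2.specOf S s RS))).obj G).obj.obj
          (op (EtCoh.top (pullback g (Hens2.specOf S s RS)))))
      (θX : (EtCoh.stalk (closedPt RX ≫ Hens2.specOf X x RX)).obj ((EtCoh.push h).obj ((EtCoh.pull e).obj G)) →
        ((EtCoh.pull (pullback.fst h (Hens2.specOf X x RX))).obj ((EtCoh.pull e).obj G)).obj.obj
          (op (EtCoh.top (pullback h (Hens2.specOf X x RX))))),
      Function.Bijective res ∧ Function.Bijective θS ∧ Function.Bijective θX ∧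
      ∀ p, ∃ (V : S.Etale) (y : pullback g (Hens2.specOf S s RS) ⟶ ((EtCoh.bc g).obj V).left)
        (hy : y ≫ ((EtCoh.bc g).obj V).hom = pullback.fst g (Hens2.specOf S s RS))
        (yX : pullback h (Hens2.specOf X x RX) ⟶ ((EtCoh.bc h).obj ((EtCoh.bc f).obj V)).left)
        (hyX : yX ≫ ((EtCoh.bc h).obj ((EtCoh.bc f).obj V)).hom = pullback.fst h (Hens2.specOf X x RX))
        (t : G.obj.obj (op ((EtCoh.bc g).obj V))),
        (locMap f g h e w s RS x RX ψ hψ ≫ y) ≫ pullback.fst V.hom g =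
          yX ≫ pullback.fst ((EtCoh.bc f).obj V).hom h ≫ pullback.fst V.hom f ∧
        θS p = sec (pullback.fst g (Hens2.specOf S s RS)) G ((EtCoh.bc g).obj V) y hy t ∧
        θX ((EtCoh.stalk (closedPt RX ≫ Hens2.specOf X x RX)).map (EtCoh.baseChange0 g f h e w G)
          (stalkPull f (closedPt RX ≫ Hens2.specOf X x RX) ((EtCoh.push g).obj G) (res p))) =
          sec (pullback.fst h (Hens2.specOf X x RX)) ((EtCoh.pull e).obj G)
            ((EtCoh.bc h).obj ((EtCoh.bc f).obj V)) yX hyX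
            (((EtCoh.pull e).obj G).obj.map (sqHom f g h e w V).op
              (((EtCoh.pullPushAdj e).unit.app G).hom.app (op ((EtCoh.bc g).obj V)) t)) := by
  have hgeo : Spec.map (CommRingCat.ofHom (IsLocalRing.ResidueField.map ψ)) ≫ closedPt RS ≫ Hens2.specOf S s RS =
      (closedPt RX ≫ Hens2.specOf X x RX) ≫ f := by
    rw [← Category.assoc, closedPt_comp RS RX ψ, Category.assoc, Category.assoc]
    exact congrArg (closedPt RX ≫ ·) hψ
  obtain ⟨res, hres, hres'⟩ := exists_stalkRes _ _ _ hgeo ((EtCoh.push g).obj G)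
  obtain ⟨ΘS, hΘS, hΘS'⟩ := exists_theta g G s RS
  obtain ⟨ΘX, hΘX, hΘX'⟩ := exists_theta h ((EtCoh.pull e).obj G) x RX
  refine ⟨res, ΘS, ΘX, hres, hΘS, hΘX, fun p => ?_⟩
  obtain ⟨V, v, t, rfl⟩ := germ_surjective (closedPt RS ≫ Hens2.specOf S s RS) ((EtCoh.push g).obj G) p
  obtain ⟨l, hl, hlv⟩ := exists_lift (Hens2.specOf S s RS) V v
  let v' : fib ((closedPt RX ≫ Hens2.specOf X x RX) ≫ f) V :=
    Over.homMk (Spec.map (CommRingCat.ofHom (IsLocalRing.ResidueField.map ψ)) ≫ v.left) (by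
      refine (Category.assoc _ _ _).trans ?_
      exact (congrArg (_ ≫ ·) (Over.w v)).trans hgeo)
  have hlX₀ : (Spec.map (CommRingCat.ofHom ψ) ≫ l) ≫ V.hom = Hens2.specOf X x RX ≫ f := by
    rw [Category.assoc, hl]
    exact hψ
  let lX : Spec (CommRingCat.of RX) ⟶ ((EtCoh.bc f).obj V).left :=
    pullback.lift (Spec.map (CommRingCat.ofHom ψ) ≫ l) (Hens2.specOf X x RX) hlX₀
  have hlX : lX ≫ ((EtCoh.bc f).obj V).hom = Hens2.specOf X x RX := pullback.lift_snd _ _ _
  have hlXv : closedPt RX ≫ lX = (liftFib f (closedPt RX ≫ Hens2.specOf X x RX) v').left := by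
    refine pullback.hom_ext ?_ ?_
    · refine (Category.assoc _ _ _).trans ((congrArg (closedPt RX ≫ ·) (pullback.lift_fst _ _ _)).trans ?_)
      refine Eq.trans ?_ (pullback.lift_fst _ _ _).symm
      refine (Category.assoc _ _ _).symm.trans ?_
      refine (congrArg (· ≫ l) (closedPt_comp RS RX ψ).symm).trans ?_
      exact (Category.assoc _ _ _).trans (congrArg (_ ≫ ·) hlv)
    · refine (Category.assoc _ _ _).trans ((congrArg (closedPt RX ≫ ·) (pullback.lift_snd _ _ _)).trans ?_)
      exact (pullback.lift_snd _ _ _).symm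
  let yS : pullback g (Hens2.specOf S s RS) ⟶ ((EtCoh.bc g).obj V).left :=
    pullback.lift (pullback.snd _ _ ≫ l) (pullback.fst _ _) (by
      rw [Category.assoc, hl]; exact pullback.condition.symm)
  let yX : pullback h (Hens2.specOf X x RX) ⟶ ((EtCoh.bc h).obj ((EtCoh.bc f).obj V)).left :=
    pullback.lift (pullback.snd _ _ ≫ lX) (pullback.fst _ _) (by
      rw [Category.assoc, hlX]; exact pullback.condition.symm)
  have hlX' : lX ≫ pullback.fst V.hom f = Spec.map (CommRingCat.ofHom ψ) ≫ l := pullback.lift_fst _ _ _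
  have hyX' : yX ≫ pullback.fst ((EtCoh.bc f).obj V).hom h = pullback.snd h (Hens2.specOf X x RX) ≫ lX :=
    pullback.lift_fst _ _ _
  have hyS' : yS ≫ pullback.fst V.hom g = pullback.snd g (Hens2.specOf S s RS) ≫ l := pullback.lift_fst _ _ _
  have hm₂ : locMap f g h e w s RS x RX ψ hψ ≫ pullback.snd g (Hens2.specOf S s RS) =
      pullback.snd h (Hens2.specOf X x RX) ≫ Spec.map (CommRingCat.ofHom ψ) := pullback.lift_snd _ _ _
  refine ⟨V, yS, pullback.lift_snd _ _ _, yX, pullback.lift_snd _ _ _, t, ?_,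
    hΘS' V v l hl hlv yS (pullback.lift_snd _ _ _) hyS' t, ?_⟩
  · rw [Category.assoc, hyS', reassoc_of% hm₂, reassoc_of% hyX', hlX']
  · rw [hres' V v v' t rfl, bc0_germ f g h e w]
    exact hΘX' _ _ lX hlX hlXv yX (pullback.lift_snd _ _ _) (pullback.lift_fst _ _ _) _

/-- Degree zero base change at a stalk is bijective iff pulling back sections between the strict
localizations is. -/
theorem bijective_stalk_bc0_iff
    (hψ : Spec.map (CommRingCat.ofHom ψ) ≫ Hens2.specOf S s RS = Hens2.specOf X x RX ≫ f) (G : EtCoh.Ab T) :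
    Function.Bijective ((EtCoh.stalk (closedPt RX ≫ Hens2.specOf X x RX)).map (EtCoh.baseChange0 g f h e w G)) ↔
      Function.Bijective (sec (locMap f g h e w s RS x RX ψ hψ)
        ((EtCoh.pull (pullback.fst g (Hens2.specOf S s RS))).obj G) (EtCoh.top (pullback g (Hens2.specOf S s RS)))
        (locMap f g h e w s RS x RX ψ hψ) (Category.comp_id _)) := by
  obtain ⟨res, θS, θX, hres, hθS, hθX, hp⟩ := exists_res_theta f g h e w s RS x RX ψ hψ G
  have hm₁ : locMap f g h e w s RS x RX ψ hψ ≫ pullback.fst g (Hens2.specOf S s RS) =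
      pullback.fst h (Hens2.specOf X x RX) ≫ e := pullback.lift_fst _ _ _
  let Φ₁ := ((EtLim24.pullT (pullback.fst h (Hens2.specOf X x RX)) e _ rfl).hom.app G).hom.app
    (op (EtCoh.top (pullback h (Hens2.specOf X x RX))))
  let Φ₂ := ((EtLim24.pullT (locMap f g h e w s RS x RX ψ hψ) (pullback.fst g (Hens2.specOf S s RS)) _ hm₁).hom.app
    G).hom.app (op (EtCoh.top (pullback h (Hens2.specOf X x RX))))
  haveI : IsIso Φ₁ := inferInstanceAs (IsIso (((sheafToPresheaf _ _).map
    ((EtLim24.pullT (pullback.fst h (Hens2.specOf X x RX)) e _ rfl).hom.app G)).app _))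
  haveI : IsIso Φ₂ := inferInstanceAs (IsIso (((sheafToPresheaf _ _).map
    ((EtLim24.pullT (locMap f g h e w s RS x RX ψ hψ) (pullback.fst g (Hens2.specOf S s RS)) _ hm₁).hom.app
      G)).app _))
  refine bij_iff_of_comm (stalkPull f (closedPt RX ≫ Hens2.specOf X x RX) ((EtCoh.push g).obj G) ∘ res) _ θX θS _
    (fun z => Φ₁ (inv Φ₂ z)) ((ConcreteCategory.bijective_of_isIso _).comp hres) hθX hθS
    ((ConcreteCategory.bijective_of_isIso Φ₁).comp (ConcreteCategory.bijective_of_isIso (inv Φ₂))) fun p => ?_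
  obtain ⟨V, y, hy, yX, hyX, t, hyy, hS, hX⟩ := hp p
  have hy' : (locMap f g h e w s RS x RX ψ hψ ≫ y) ≫ ((EtCoh.bc g).obj V).hom =
      pullback.fst h (Hens2.specOf X x RX) ≫ e :=
    ((Category.assoc _ _ _).trans (congrArg (_ ≫ ·) hy)).trans hm₁
  refine hX.trans ((sec_sq f g h e w G _ V yX hyX _ hy' hyy t).trans ?_)
  refine Eq.trans ?_ (congrArg (fun z => Φ₁ (inv Φ₂ (sec (locMap f g h e w s RS x RX ψ hψ) _ _ _
    (Category.comp_id _) z))) hS.symm)
  rw [sec_sec (locMap f g h e w s RS x RX ψ hψ) _ _ hm₁ G _ y hy _ hy' rfl t]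
  exact congrArg Φ₁ (hom_inv_apply Φ₂ _).symm

end Groth.Agent.PointLim24
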