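import Groth.Agent.Lib.PointLim24.Crit

/-!
# The fibre criterion over a separably closed point
-/

set_option autoImplicit false
set_option linter.style.haveILetI false
set_option linter.unusedSectionVars false
set_option backward.isDefEq.respectTransparency false
set_option backward.isDefEq.respectTransparency.types false

universe u

open CategoryTheory CategoryTheory.Limits AlgebraicGeometry Opposite

namespace Groth.Agent.PointLim24

open Groth.Agent.EtStalk Groth.Agent.StrictLim24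

/-- A retraction pulls a pulled back sheaf back to itself. -/
noncomputable def sectionIso {K : Type u} [Field K] {A C : Scheme.{u}} (c : Spec (CommRingCat.of K) ⟶ A) (i : A ⟶ C)
    (a : C ⟶ Spec (CommRingCat.of K)) (h : c ≫ i ≫ a = 𝟙 _) (F : EtCoh.Ab (Spec (CommRingCat.of K))) :
    (EtCoh.pull c).obj ((EtCoh.pull i).obj ((EtCoh.pull a).obj F)) ≅ F :=
  (EtCoh.pull c).mapIso ((EtLim24.pullT i a (i ≫ a) rfl).app F).symm ≪≫
    ((EtLim24.pullT c (i ≫ a) (𝟙 _) h).app F).symm ≪≫ (EtDesc24.pullId _).app F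

variable {K : Type u} [Field K] [IsSepClosed K]

/-- What bijectivity of pullback from the point to a scheme amounts to. -/
def PtBij (Q : Scheme.{u}) (aQ : Q ⟶ Spec (CommRingCat.of K)) (F : EtCoh.Ab (Spec (CommRingCat.of K))) (q : ℕ) :
    Prop :=
  (q = 0 → Function.Bijective (sec aQ F (EtCoh.top (Spec (CommRingCat.of K))) aQ (Category.comp_id _))) ∧
    (0 < q → Subsingleton (EtCoh.H Q ((EtCoh.pull aQ).obj F) q))

theorem bijective_Hpull_iff_ptBij {Q : Scheme.{u}} (aQ : Q ⟶ Spec (CommRingCat.of K))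
    [PreservesFiniteLimits (EtCoh.pull aQ)] (F : EtCoh.Ab (Spec (CommRingCat.of K))) (q : ℕ) :
    Function.Bijective (EtCore.Hpull aQ F q) ↔ PtBij Q aQ F q := by
  rcases Nat.eq_zero_or_pos q with rfl | hq
  · exact (bijective_Hpull_zero_iff aQ F).trans ⟨fun h => ⟨fun _ => h, fun h' => absurd h' (lt_irrefl 0)⟩, fun h => h.1 rfl⟩
  · haveI := subsingleton_H (isSplit_self K) F q hq
    exact (bijective_iff_subsingleton _).trans ⟨fun h => ⟨fun h' => absurd h' hq.ne', fun _ => h⟩, fun h => h.2 hq⟩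

theorem ptBij_iso {Q Q' : Scheme.{u}} (j : Q' ⟶ Q) [IsIso j] (aQ : Q ⟶ Spec (CommRingCat.of K))
    (aQ' : Q' ⟶ Spec (CommRingCat.of K)) (hj : j ≫ aQ = aQ') (F : EtCoh.Ab (Spec (CommRingCat.of K))) (q : ℕ) :
    PtBij Q aQ F q ↔ PtBij Q' aQ' F q :=
  and_congr (imp_congr_right fun _ => (bijective_sec_source j aQ aQ' hj F).symm)
    (imp_congr_right fun _ => subsingleton_H_source j aQ aQ' hj F q)

variable {B : Type u} [CommRing B] [Algebra K B] (hB : IsSplit K B)
  {PS PX : Scheme.{u}} (i : PS ≅ Spec (CommRingCat.of B)) (aS : PS ⟶ Spec (CommRingCat.of K))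
  (aX : PX ⟶ Spec (CommRingCat.of K)) (m : PX ⟶ PS) (w : m ≫ aS = aX)
  (hi : i.hom ≫ Spec.map (CommRingCat.ofHom (algebraMap K B)) = aS)
  [QuasiCompact m] [QuasiSeparated m] (F : EtCoh.Ab (Spec (CommRingCat.of K)))

include hi in
theorem pt_comp (χ : B →ₐ[K] K) : Spec.map (CommRingCat.ofHom χ.toRingHom) ≫ i.inv ≫ aS = 𝟙 _ := by
  rw [← hi, i.inv_hom_id_assoc, ← Spec.map_comp]
  refine (congrArg Spec.map (CommRingCat.hom_ext ?_ : _ = 𝟙 (CommRingCat.of K))).trans (Spec.map_id _)
  exact χ.comp_algebraMap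

include hi w in
theorem fibre_fst (χ : B →ₐ[K] K) :
    pullback.fst (m ≫ i.hom) (Spec.map (CommRingCat.ofHom χ.toRingHom)) ≫ aX =
      pullback.snd (m ≫ i.hom) (Spec.map (CommRingCat.ofHom χ.toRingHom)) := by
  have e : aX = (m ≫ i.hom) ≫ i.inv ≫ aS := by rw [Category.assoc, i.hom_inv_id_assoc, w]
  rw [e, pullback.condition_assoc, pt_comp i aS hi, Category.comp_id]

include hB hi in
theorem bijective_sec_iff_ptBij_zero :
    Function.Bijective (sec m ((EtCoh.pull aS).obj F) (EtCoh.top PS) m (Category.comp_id m)) ↔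
      ∀ χ : B →ₐ[K] K, Function.Bijective (sec (pullback.snd (m ≫ i.hom) (Spec.map (CommRingCat.ofHom χ.toRingHom))) F
        (EtCoh.top (Spec (CommRingCat.of K))) (pullback.snd (m ≫ i.hom) (Spec.map (CommRingCat.ofHom χ.toRingHom)))
        (Category.comp_id _)) :=
  (bijective_sec_target m i _).trans ((bijective_sec_iff_fibres hB (m ≫ i.hom) _).trans
    (forall_congr' fun χ => bijective_sec_congr _ (sectionIso _ i.inv aS (pt_comp i aS hi χ) F)))

include hB hi w in
theorem subsingleton_iff_fibres_pos (q : ℕ) :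
    Subsingleton (EtCoh.H PX ((EtCoh.pull m).obj ((EtCoh.pull aS).obj F)) q) ↔
      ∀ χ : B →ₐ[K] K, Subsingleton (EtCoh.H (pullback (m ≫ i.hom) (Spec.map (CommRingCat.ofHom χ.toRingHom)))
        ((EtCoh.pull (pullback.snd (m ≫ i.hom) (Spec.map (CommRingCat.ofHom χ.toRingHom)))).obj F) q) := by
  refine (((EtCoh.HF PX q).mapIso ((EtLim24.pullT m aS aX w).app F)).symm.addCommGroupIsoToAddEquiv.toEquiv.subsingleton_congr).trans ?_
  refine (subsingleton_H_iff_fibres hB (m ≫ i.hom) ((EtCoh.pull aX).obj F) q).trans (forall_congr' fun χ => ?_)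
  exact ((EtCoh.HF _ q).mapIso ((EtLim24.pullT _ aX _ (fibre_fst i aS aX m w hi χ)).app F)).symm.addCommGroupIsoToAddEquiv.toEquiv.subsingleton_congr

include hB hi in
/-- The left hand side, on the fibres. -/
theorem bijective_HpullVia_iff_fibres [PreservesFiniteLimits (EtCoh.pull m)] (q : ℕ) :
    Function.Bijective (EtCore.HpullVia m aS aX w F q) ↔
      ∀ χ : B →ₐ[K] K, PtBij (pullback (m ≫ i.hom) (Spec.map (CommRingCat.ofHom χ.toRingHom)))
        (pullback.snd (m ≫ i.hom) (Spec.map (CommRingCat.ofHom χ.toRingHom))) F q := by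
  refine (bijective_HpullVia_iff m aS aX w F q).trans ?_
  rcases Nat.eq_zero_or_pos q with rfl | hq
  · refine (bijective_Hpull_zero_iff m _).trans ((bijective_sec_iff_ptBij_zero hB i aS m hi F).trans ?_)
    exact forall_congr' fun χ => ⟨fun h => ⟨fun _ => h, fun h' => absurd h' (lt_irrefl 0)⟩, fun h => h.1 rfl⟩
  · haveI : Subsingleton (EtCoh.H PS ((EtCoh.pull aS).obj F) q) := by
      have h := LocAcyc24.bijective_Hpull_of_isIso i.inv ((EtCoh.pull aS).obj F) q
      haveI := PointLim24.subsingleton_H hB ((EtCoh.pull i.inv).obj ((EtCoh.pull aS).obj F)) q hq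
      exact h.1.subsingleton
    refine (bijective_iff_subsingleton _).trans ((subsingleton_iff_fibres_pos hB i aS aX m w hi F q).trans ?_)
    exact forall_congr' fun χ => ⟨fun h => ⟨fun h' => absurd h' hq.ne', fun _ => h⟩, fun h => h.2 hq⟩

end Groth.Agent.PointLim24
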