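import Groth.Agent.Lib.PointLim24.PointCase
import Groth.Agent.Lib.EtAcyc24.LqfCriterion

/-!
# An acyclic morphism with acyclic fibres is acyclic
-/

set_option autoImplicit false
set_option linter.style.haveILetI false
set_option linter.unusedSectionVars false
set_option backward.isDefEq.respectTransparency false
set_option backward.isDefEq.respectTransparency.types false

universe w v w' v' u

open CategoryTheory CategoryTheory.Limits AlgebraicGeometry Opposite

namespace Groth.Agent.PointLim24

open Groth.Agent.EtStalk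

section Coker

variable {C : Type w} [Category.{v} C] {D : Type w'} [Category.{v'} D] [Abelian D] {A B : C ⥤ D} (α : A ⟶ B)

/-- The cokernel of a natural transformation. -/
noncomputable def cok : C ⥤ D where
  obj F := cokernel (α.app F)
  map a := cokernel.map _ _ (A.map a) (B.map a) (α.naturality a).symm

lemma π_cok_map {F G : C} (a : F ⟶ G) :
    cokernel.π (α.app F) ≫ (cok α).map a = B.map a ≫ cokernel.π (α.app G) := cokernel.π_desc _ _ _

instance additive_cok [Preadditive C] [A.Additive] [B.Additive] : (cok α).Additive where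
  map_add {F G a b} := by
    rw [← cancel_epi (cokernel.π (α.app F)), Preadditive.comp_add, π_cok_map, π_cok_map, π_cok_map,
      ← Preadditive.add_comp, B.map_add]

theorem preservesColimitsOfShape_cok (J : Type u) [SmallCategory J] [PreservesColimitsOfShape J A]
    [PreservesColimitsOfShape J B] : PreservesColimitsOfShape J (cok α) := by
  refine ⟨fun {K} => ⟨fun {c} hc => ⟨?_⟩⟩⟩
  have hB : IsColimit (B.mapCocone c) := isColimitOfPreserves _ hc
  have hA : IsColimit (A.mapCocone c) := isColimitOfPreserves _ hc
  let p := fun (s : Cocone (K ⋙ cok α)) =>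
    hB.desc { pt := s.pt
              ι := { app := fun j => cokernel.π (α.app (K.obj j)) ≫ s.ι.app j
                     naturality := fun j k m => by
                       have h1 := π_cok_map α (K.map m)
                       have h2 := s.w m
                       simp only [Functor.comp_map] at h1 h2 ⊢
                       rw [← reassoc_of% h1, h2]
                       exact (Category.comp_id _).symm } }
  have hp : ∀ s j, B.map (c.ι.app j) ≫ p s = cokernel.π (α.app (K.obj j)) ≫ s.ι.app j := fun s j => hB.fac _ j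
  refine
    { desc := fun s => cokernel.desc (α.app c.pt) (p s) (hA.hom_ext fun j => ?_)
      fac := fun s j => ?_
      uniq := fun s m hm => ?_ }
  · show A.map (c.ι.app j) ≫ _ = _
    rw [← Category.assoc]
    erw [α.naturality (c.ι.app j), Category.assoc, hp s j, cokernel.condition_assoc]
    rw [zero_comp, comp_zero]
  · show (cok α).map (c.ι.app j) ≫ _ = _
    rw [← cancel_epi (cokernel.π (α.app (K.obj j)))]
    erw [reassoc_of% (π_cok_map α (c.ι.app j)), cokernel.π_desc]
    exact hp s j
  · rw [← cancel_epi (cokernel.π (α.app c.pt)), cokernel.π_desc]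
    refine hB.hom_ext fun j => ?_
    show B.map (c.ι.app j) ≫ _ = _
    erw [hp s j]
    rw [← hm j]
    exact (Category.assoc _ _ _).symm.trans ((congrArg (· ≫ m) (π_cok_map α (c.ι.app j))).symm.trans
      (Category.assoc _ _ _))

/-- Monomorphisms give monomorphisms of cokernels if the cokernel has a monomorphism. -/
theorem mono_cok_map [Abelian C] {F G : C} (ι : F ⟶ G) [Mono ι] [Mono (B.map ι)]
    (hA : ∀ {T : D} (b : T ⟶ A.obj G), b ≫ A.map (cokernel.π ι) = 0 → ∃ z, z ≫ A.map ι = b)
    [Mono (α.app (cokernel ι))] [B.PreservesZeroMorphisms] : Mono ((cok α).map ι) := by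
  refine Preadditive.mono_of_cancel_zero _ fun {T} k hk => ?_
  obtain ⟨T₁, π, _, a, ha⟩ := surjective_up_to_refinements_of_epi (cokernel.π (α.app F)) k
  have h0 : (a ≫ B.map ι) ≫ cokernel.π (α.app G) = 0 := by
    rw [Category.assoc, ← π_cok_map α ι, ← Category.assoc, ← ha, Category.assoc]
    exact (congrArg (π ≫ ·) hk).trans comp_zero
  obtain ⟨T₂, π', _, b, hb⟩ := (ShortComplex.exact_cokernel (α.app G)).exact_up_to_refinements (a ≫ B.map ι) h0
  dsimp only [ShortComplex.mk] at hb
  obtain ⟨z, hz⟩ := hA b (by
    rw [← cancel_mono (α.app (cokernel ι)), Category.assoc, zero_comp, α.naturality, ← reassoc_of% hb,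
      ← B.map_comp, cokernel.condition, B.map_zero, comp_zero, comp_zero])
  have e : π' ≫ a = z ≫ α.app F := by
    rw [← cancel_mono (B.map ι), Category.assoc, Category.assoc, ← α.naturality, reassoc_of% hz]
    exact hb
  rw [← cancel_epi π, comp_zero, ha, ← cancel_epi π', reassoc_of% e, cokernel.condition, comp_zero, comp_zero]

end Coker

variable {X S : Scheme.{u}} [CompactSpace S] [QuasiSeparatedSpace S] (f : X ⟶ S) [QuasiCompact f] [QuasiSeparated f]
  (hf : EtRest.IsLocallyAcyclic f) (n : ℕ) (hn : 1 < n) (hX : ∀ x : X, (n : X.residueField x) ≠ 0)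
  (hfib : ∀ (Ω : Type u) [Field Ω] [IsSepClosed Ω] (t : Spec (CommRingCat.of Ω) ⟶ S),
    Nonempty (EtCoh.H (pullback f t) (EtCoh.const (pullback f t) (ZMod n)) 0 ≃+ ZMod n) ∧
    ∀ q : ℕ, 0 < q → Subsingleton (EtCoh.H (pullback f t) (EtCoh.const (pullback f t) (ZMod n)) q))

include hn hfib in
/-- The fibres are nonempty. -/
theorem surjective_of_fibres : Function.Surjective f.base := fun s => by
  obtain ⟨⟨y⟩, -⟩ := connected_of_H0' n hn
    (hfib (SeparableClosure (S.residueField s)) (Embed24.pt S s (SeparableClosure (S.residueField s)))).1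
  refine ⟨pullback.fst f _ y, ?_⟩
  rw [← Scheme.Hom.comp_apply, pullback.condition, Scheme.Hom.comp_apply, Embed24.pt_apply]

set_option maxHeartbeats 1000000 in
include hf hn hX hfib in
/-- The unit is an isomorphism and the higher direct images vanish. -/
theorem acyclic_of_fibres :
    (∀ F : EtCoh.Ab S, EtCoh.KilledBy n F → IsIso ((EtCoh.pullPushAdj f).unit.app F)) ∧
      ∀ (q : ℕ) (F : EtCoh.Ab S), 0 < q → EtCoh.KilledBy n F →
        IsZero ((EtCoh.Rpush f q).obj ((EtCoh.pull f).obj F)) := by
  haveI hpull : (EtCoh.pull f).Additive := (EtCoh.pullPushAdj f).left_adjoint_additive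
  haveI hpush : (EtCoh.push f).Additive := (EtCoh.pullPushAdj f).right_adjoint_additive
  haveI := (EtCoh.pullPushAdj f).isRightAdjoint
  haveI : PreservesColimitsOfSize.{u, u} (EtCoh.pull f) := (EtCoh.pullPushAdj f).leftAdjoint_preservesColimits
  have hsurj := surjective_of_fibres f n hn hfib
  have hmono : ∀ F, Mono ((EtCoh.pullPushAdj f).unit.app F) := EtAcyc24.mono_unit_of_surjective f hsurj
  have hstalk : ∀ (Ω : Type u) [Field Ω] [IsSepClosed Ω] (ξ : Spec (CommRingCat.of Ω) ⟶ S),
      (EtCoh.stalk ξ).Additive := fun Ω _ _ ξ => by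
    haveI : PreservesBinaryBiproducts (EtCoh.stalk ξ) := preservesBinaryBiproducts_of_preservesBinaryProducts _
    exact Functor.additive_of_preservesBinaryBiproducts _
  have hcok : ∀ {F G : EtCoh.Ab S} (ι : F ⟶ G) [Mono ι], EtCoh.KilledBy n G → EtCoh.KilledBy n (cokernel ι) :=
    fun {F G} ι _ hG => EtBCQ24.killedBy_of_nsmul
      (EtBCQ24.killedBy_of_epi' n (cokernel.π ι) (EtBCQ24.nsmul_id_of_killedBy hG))
  have h0 : ∀ F : EtCoh.Ab S, EtCoh.KilledBy n F → IsIso ((EtCoh.pullPushAdj f).unit.app F) := fun F hF => by
    let α := (EtCoh.pullPushAdj f).unit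
    haveI := hmono F
    suffices hz : IsZero ((cok α).obj F) by
      haveI : Epi (α.app F) := Preadditive.epi_of_isZero_cokernel (α.app F) hz
      exact isIso_of_mono_of_epi _
    rw [isZero_iff_stalk]
    intro Ω _ _ ξ
    haveI := hstalk Ω ξ
    haveI : (EtCoh.pull f ⋙ EtCoh.push f).Additive := inferInstance
    refine BCField24.isZero_of_points (cok α ⋙ EtCoh.stalk ξ) (fun J _ _ => ?_) F
      (fun κ _ W w ι hι => ?_) (fun K _ _ t => ?_)
    · haveI := BCField24.preservesColimitsOfShape_Rpush f 0 J
      haveI : PreservesColimitsOfShape J (EtCoh.push f) :=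
        preservesColimitsOfShape_of_natIso (EtCoh.push f).rightDerivedZeroIsoSelf
      haveI : PreservesColimitsOfShape J (EtCoh.pull f ⋙ EtCoh.push f) := inferInstance
      haveI := preservesColimitsOfShape_cok α J
      infer_instance
    · haveI : Mono ((EtCoh.pull f).map ι) := inferInstance
      haveI : Mono ((EtCoh.pull f ⋙ EtCoh.push f).map ι) :=
        inferInstanceAs (Mono ((EtCoh.push f).map ((EtCoh.pull f).map ι)))
      haveI := hmono (cokernel ι)
      haveI hm : Mono ((cok α).map ι) := mono_cok_map α ι fun {T} b hb =>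
        ⟨(ShortComplex.exact_cokernel ι).lift b hb, (ShortComplex.exact_cokernel ι).lift_f b hb⟩
      exact (mono_iff_stalk _).1 hm Ω ξ
    · haveI := isIso_unit_push_point f hf n hn t (hfib K t).1 ((EtCoh.pull t).obj F)
      exact (EtCoh.stalk ξ).map_isZero (isZero_cokernel_of_epi _)
  refine ⟨h0, fun q => ?_⟩
  induction q with
  | zero => intro F h; omega
  | succ m ih =>
    intro F _ hF
    rw [isZero_iff_stalk]
    intro Ω _ _ ξ
    haveI := hstalk Ω ξ
    refine BCField24.isZero_of_points (EtCoh.pull f ⋙ EtCoh.Rpush f (m + 1) ⋙ EtCoh.stalk ξ)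
      (fun J _ _ => ?_) F (fun κ _ W w ι hι => ?_) (fun K _ _ t => ?_)
    · haveI := BCField24.preservesColimitsOfShape_Rpush f (m + 1) J
      infer_instance
    · haveI := hι
      have hG := BCField24.killedBy_sum W w hF
      let g := cokernel.π ι
      have hS : (ShortComplex.mk ι g (cokernel.condition ι)).ShortExact :=
        { exact := ShortComplex.exact_cokernel ι }
      obtain ⟨T⟩ := RDerLES.exists_sesRes (hS.map_of_exact (EtCoh.pull f))
      obtain ⟨-, ⟨v, hv⟩, ⟨v₂, hv₂⟩⟩ := RDerLES.exact_sequences (EtCoh.push f) T m (m + 1) rfl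
      suffices hm : Mono (((EtCoh.push f).rightDerived (m + 1)).map ((EtCoh.pull f).map ι)) from
        (mono_iff_stalk (((EtCoh.push f).rightDerived (m + 1)).map ((EtCoh.pull f).map ι))).1 hm Ω ξ
      refine hv₂.mono_g ?_
      rcases Nat.eq_zero_or_pos m with rfl | hm
      · haveI := h0 _ (hcok ι hG)
        haveI : Epi ((EtCoh.push f).map ((EtCoh.pull f).map g)) := by
          haveI : Epi ((EtCoh.pullPushAdj f).unit.app _ ≫ (EtCoh.push f).map ((EtCoh.pull f).map g)) := by
            have hn' := (EtCoh.pullPushAdj f).unit.naturality g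
            simp only [Functor.id_map, Functor.comp_map] at hn'
            rw [← hn']
            infer_instance
          exact epi_of_epi ((EtCoh.pullPushAdj f).unit.app _) _
        haveI : Epi (((EtCoh.push f).rightDerived 0).map ((EtCoh.pull f).map g)) :=
          ((MorphismProperty.epimorphisms _).arrow_mk_iso_iff
            (Arrow.isoMk' _ _ ((EtCoh.push f).rightDerivedZeroIsoSelf.app _)
              ((EtCoh.push f).rightDerivedZeroIsoSelf.app _)
              ((EtCoh.push f).rightDerivedZeroIsoSelf.hom.naturality ((EtCoh.pull f).map g)).symm)).2 ‹_›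
        exact (cancel_epi (((EtCoh.push f).rightDerived 0).map ((EtCoh.pull f).map g))).1 (v.trans comp_zero.symm)
      · exact (ih (cokernel ι) hm (hcok ι hG)).eq_of_src _ _
    · exact (EtCoh.stalk ξ).map_isZero (isZero_Rpush_push_point f hf n hn hX t (hfib K t).1 (hfib K t).2 _
        (BCField24.killedBy_pull t hF) (m + 1) m.succ_pos)

end Groth.Agent.PointLim24
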