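import Groth.Agent.Lib.PointLim24.Fibres
import Groth.Agent.Lib.StalkCrit24.Fibres
import Groth.Agent.Lib.LocAcyc24.CompCancel
import Groth.Agent.Lib.LocConst24.Const

/-!
# Direct images from geometric points after a locally acyclic base change
-/

set_option autoImplicit false
set_option linter.style.haveILetI false
set_option linter.unusedSectionVars false
set_option backward.isDefEq.respectTransparency false
set_option backward.isDefEq.respectTransparency.types false

universe u

open CategoryTheory CategoryTheory.Limits AlgebraicGeometry Opposite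

namespace Groth.Agent.PointLim24

open Groth.Agent.EtStalk Groth.Agent.StrictLim24

variable {X S Y : Scheme.{u}} (f : X ⟶ S) (hf : EtRest.IsLocallyAcyclic f)
  {K : Type u} [Field K] [IsSepClosed K] (t : Spec (CommRingCat.of K) ⟶ S) (h : Y ⟶ X)
  (e : Y ⟶ Spec (CommRingCat.of K)) (sq : IsPullback e h t f) [QuasiCompact t] [QuasiSeparated t]

include sq in
theorem qc_qs : QuasiCompact h ∧ QuasiSeparated h :=
  ⟨MorphismProperty.of_isPullback sq ‹QuasiCompact t›, MorphismProperty.of_isPullback sq ‹QuasiSeparated t›⟩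

variable (x : X) {RS RX : Type u} [CommRing RS] [CommRing RX] [IsLocalRing RS] [IsLocalRing RX]
  [Algebra (S.presheaf.stalk (f.base x)) RS] [IsLocalHom (algebraMap (S.presheaf.stalk (f.base x)) RS)]
  [Hensel.IsStrictHenselization (S.presheaf.stalk (f.base x)) RS]
  [Algebra (X.presheaf.stalk x) RX] [IsLocalHom (algebraMap (X.presheaf.stalk x) RX)]
  [Hensel.IsStrictHenselization (X.presheaf.stalk x) RX]
  (ψ : RS →+* RX) [IsLocalHom ψ]
  (hψ : ψ.comp (algebraMap (S.presheaf.stalk (f.base x)) RS) =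
    (algebraMap (X.presheaf.stalk x) RX).comp (f.stalkMap x).hom)

include sq hψ in
/-- The map between the strict localizations over the point. -/
theorem exists_loc_map :
    ∃ m : pullback h (Hens2.specOf X x RX) ⟶ pullback t (Hens2.specOf S (f.base x) RS),
      m ≫ pullback.fst t _ = pullback.fst h _ ≫ e ∧
      m ≫ pullback.snd t _ = pullback.snd h _ ≫ Spec.map (CommRingCat.ofHom ψ) ∧
      QuasiCompact m ∧ QuasiSeparated m ∧
      IsPullback (pullback.fst h (Hens2.specOf X x RX) ≫ e) (pullback.snd h _) t (Hens2.specOf X x RX ≫ f) := by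
  obtain ⟨_, _⟩ := qc_qs f t h e sq
  have hψ' := (LocAcyc24.specOf_compat f ψ).1 hψ
  let m := locMap f t h e sq.w (f.base x) RS x RX ψ hψ'
  have h2 : m ≫ pullback.snd t _ = pullback.snd h _ ≫ Spec.map (CommRingCat.ofHom ψ) := pullback.lift_snd _ _ _
  haveI : QuasiCompact (m ≫ pullback.snd t (Hens2.specOf S (f.base x) RS)) := h2 ▸ inferInstance
  haveI : QuasiSeparated (m ≫ pullback.snd t (Hens2.specOf S (f.base x) RS)) := h2 ▸ inferInstance
  exact ⟨m, pullback.lift_fst _ _ _, h2, QuasiCompact.of_comp m (pullback.snd t (Hens2.specOf S (f.base x) RS)),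
    QuasiSeparated.of_comp m (pullback.snd t (Hens2.specOf S (f.base x) RS)),
    (IsPullback.of_hasPullback h (Hens2.specOf X x RX)).paste_horiz sq⟩

include sq hf in
/-- The base change map of a sheaf with constant germs is an isomorphism. -/
theorem isIso_bc0_of_const (G : EtCoh.Ab (Spec (CommRingCat.of K))) {M : Type*}
    (c : M → G.obj.obj (op (EtCoh.top (Spec (CommRingCat.of K)))))
    (hc : ∀ (Ω : Type u) [Field Ω] [IsSepClosed Ω] (ξ : Spec (CommRingCat.of Ω) ⟶ Spec (CommRingCat.of K))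
      (v : fib ξ (EtCoh.top (Spec (CommRingCat.of K)))), Function.Bijective fun z => germ ξ G v (c z)) :
    IsIso (EtCoh.baseChange0 t f h e sq.w G) := by
  obtain ⟨_, _⟩ := qc_qs f t h e sq
  rw [isIso_iff_stalk]
  intro Ω _ _ ξ
  obtain ⟨x, hx⟩ : ∃ x, ξ (IsLocalRing.closedPoint Ω) = x := ⟨_, rfl⟩
  obtain ⟨RX, _, _, _, _, hRX⟩ := StalkCrit24.exists_strictHenselization_of_local (X.presheaf.stalk x)
  haveI := hRX
  haveI : HenselianLocalRing RX := hRX.henselian
  haveI : IsSepClosed (IsLocalRing.ResidueField RX) := hRX.isSepClosure.sep_closed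
  obtain ⟨RS, _, _, _, _, hRS⟩ := StalkCrit24.exists_strictHenselization_of_local (S.presheaf.stalk (f.base x))
  haveI := hRS
  haveI : HenselianLocalRing RS := hRS.henselian
  haveI : IsSepClosed (IsLocalRing.ResidueField RS) := hRS.isSepClosure.sep_closed
  obtain ⟨ψ, _, hψ⟩ := LocAcyc24.exists_map_sh (RA := RS) (RB := RX) (f.stalkMap x).hom
  obtain ⟨ρ, rfl⟩ := StalkCrit24.exists_geo ξ hx RX
  refine (StalkCrit24.bijective_stalk_geo_iff ρ (Hens2.specOf X x RX) _).2 ?_
  have hψ' := (LocAcyc24.specOf_compat f ψ).1 hψ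
  refine (bijective_stalk_bc0_iff f t h e sq.w (f.base x) RS x RX ψ hψ' G).2 ?_
  obtain ⟨m, hm₁, hm₂, _, _, cX⟩ := exists_loc_map f t h e sq x ψ hψ
  have hm : locMap f t h e sq.w (f.base x) RS x RX ψ hψ' = m :=
    pullback.hom_ext ((pullback.lift_fst _ _ _).trans hm₁.symm) ((pullback.lift_snd _ _ _).trans hm₂.symm)
  haveI : QuasiCompact (locMap f t h e sq.w (f.base x) RS x RX ψ hψ') := hm ▸ ‹QuasiCompact m›
  refine bijective_sec_const f x ψ hψ (IsPullback.of_hasPullback t (Hens2.specOf S (f.base x) RS)) cX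
    (m := locMap f t h e sq.w (f.base x) RS x RX ψ hψ') (hm ▸ hm₁) (hm ▸ hm₂) hf _
    (fun z => sec (pullback.fst t (Hens2.specOf S (f.base x) RS)) G (EtCoh.top _)
      (pullback.fst t (Hens2.specOf S (f.base x) RS)) (Category.comp_id _) (c z))
    fun Ω' _ _ η v => bijective_germ_sec (pullback.fst t (Hens2.specOf S (f.base x) RS)) G c η v fun v' => hc Ω' _ v'

include sq hf in
/-- Higher direct images of constant sheaves from the point vanish. -/
theorem isZero_Rpush_const (n : ℕ) (hn : ∀ x : X, (n : X.residueField x) ≠ 0) (q : ℕ) (hq : 0 < q) :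
    IsZero ((EtCoh.Rpush h q).obj (EtCoh.const Y (ZMod n))) := by
  obtain ⟨_, _⟩ := qc_qs f t h e sq
  rw [isZero_iff_stalk]
  intro Ω _ _ ξ
  obtain ⟨x, hx⟩ : ∃ x, ξ (IsLocalRing.closedPoint Ω) = x := ⟨_, rfl⟩
  obtain ⟨RX, _, _, _, _, hRX⟩ := StalkCrit24.exists_strictHenselization_of_local (X.presheaf.stalk x)
  haveI := hRX
  haveI : HenselianLocalRing RX := hRX.henselian
  haveI : IsSepClosed (IsLocalRing.ResidueField RX) := hRX.isSepClosure.sep_closed
  obtain ⟨RS, _, _, _, _, hRS⟩ := StalkCrit24.exists_strictHenselization_of_local (S.presheaf.stalk (f.base x))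
  haveI := hRS
  haveI : HenselianLocalRing RS := hRS.henselian
  haveI : IsSepClosed (IsLocalRing.ResidueField RS) := hRS.isSepClosure.sep_closed
  obtain ⟨ψ, _, hψ⟩ := LocAcyc24.exists_map_sh (RA := RS) (RB := RX) (f.stalkMap x).hom
  obtain ⟨ρ, rfl⟩ := StalkCrit24.exists_geo ξ hx RX
  let F := (EtCoh.Rpush h q).obj (EtCoh.const Y (ZMod n))
  suffices hs : Subsingleton ((EtCoh.stalk (closedPt RX ≫ Hens2.specOf X x RX)).obj F) by
    have h0 : Function.Bijective ((EtCoh.stalk (closedPt RX ≫ Hens2.specOf X x RX)).map (0 : F ⟶ F)) :=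
      ⟨fun _ _ _ => Subsingleton.elim _ _, fun p => ⟨p, Subsingleton.elim _ _⟩⟩
    have h1 := (StalkCrit24.bijective_stalk_geo_iff ρ (Hens2.specOf X x RX) (0 : F ⟶ F)).2 h0
    rw [Functor.map_zero] at h1
    exact @AddCommGrpCat.isZero_of_subsingleton _ (subsingleton_of_forall_eq 0 fun p => by
      obtain ⟨r, hr⟩ := h1.2 p
      exact hr.symm)
  obtain ⟨m, hm₁, hm₂, _, _, cX⟩ := exists_loc_map f t h e sq x ψ hψ
  obtain ⟨T⟩ := StrictLim24.nonempty_strictSys X x RX
  obtain ⟨i⟩ := T.nonempty_stalk_Rpush_iso h q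
  haveI := subsingleton_H_const f x ψ hψ (IsPullback.of_hasPullback t (Hens2.specOf S (f.base x) RS)) cX
    hm₁ hm₂ hf n (hn x) q hq
  exact @Equiv.subsingleton _ _ ((i.app (EtCoh.const Y (ZMod n))) ≪≫
    (EtCoh.HF _ q).mapIso (EtCore.pullConst _ (ZMod n))).addCommGroupIsoToAddEquiv.toEquiv
    (subsingleton_H_const f x ψ hψ (IsPullback.of_hasPullback t (Hens2.specOf S (f.base x) RS)) cX
      hm₁ hm₂ hf n (hn x) q hq)

end Groth.Agent.PointLim24
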