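import Groth.Agent.Lib.StrictLim24.Main
import Groth.Agent.Lib.StalkLim24.StalkForm

/-!
# The base change map in degree zero on sections over strict localizations
-/

set_option autoImplicit false
set_option linter.style.haveILetI false
set_option linter.unusedSectionVars false
set_option backward.isDefEq.respectTransparency false
set_option backward.isDefEq.respectTransparency.types false

universe u

open CategoryTheory CategoryTheory.Limits AlgebraicGeometry Opposite

namespace Groth.Agent.PointLim24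

open Groth.Agent.EtStalk Groth.Agent.StrictLim24

variable {A B C : Scheme.{u}}

lemma fst_fst_hom (v : A ⟶ B) (u : B ⟶ C) (U : C.Etale) {Z : Scheme.{u}}
    (q : Z ⟶ ((EtCoh.bc v).obj ((EtCoh.bc u).obj U)).left) :
    (q ≫ pullback.fst ((EtCoh.bc u).obj U).hom v ≫ pullback.fst U.hom u) ≫ U.hom =
      ((q ≫ ((EtCoh.bc v).obj ((EtCoh.bc u).obj U)).hom) ≫ v) ≫ u := by
  simp only [Category.assoc]
  refine congrArg (q ≫ ·) ?_
  erw [pullback.condition, pullback.condition_assoc]
  rfl

/-- The section of an inverse image of a unit. -/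
theorem sec_unit (v : A ⟶ B) (u : B ⟶ C) (w : A ⟶ C) (e : v ≫ u = w) (F : EtCoh.Ab C) (U : C.Etale)
    (y : A ⟶ ((EtCoh.bc u).obj U).left) (hy : y ≫ ((EtCoh.bc u).obj U).hom = v)
    (y' : A ⟶ U.left) (hy' : y' ≫ U.hom = w) (hyy : y ≫ pullback.fst U.hom u = y') (s : F.obj.obj (op U)) :
    sec v ((EtCoh.pull u).obj F) ((EtCoh.bc u).obj U) y hy (((EtCoh.pullPushAdj u).unit.app F).hom.app (op U) s) =
      ((EtLim24.pullT v u w e).hom.app F).hom.app (op (EtCoh.top A)) (sec w F U y' hy' s) := by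
  subst hyy
  have hη := EtLim24.transpose_comp v u w e (𝟙 ((EtCoh.pull u).obj F)) (𝟙 ((EtCoh.pull v).obj ((EtCoh.pull u).obj F)))
  rw [Adjunction.homEquiv_id, Adjunction.homEquiv_id, CategoryTheory.Functor.map_id] at hη
  erw [Category.id_comp, Category.comp_id] at hη
  rw [Adjunction.homEquiv_unit] at hη
  let G := (EtCoh.pull v).obj ((EtCoh.pull u).obj F)
  let d : G.obj.obj (op ((EtCoh.bc v).obj ((EtCoh.bc u).obj U))) :=
    ((EtCoh.pullPushAdj v).unit.app ((EtCoh.pull u).obj F)).hom.app (op ((EtCoh.bc u).obj U))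
      (((EtCoh.pullPushAdj u).unit.app F).hom.app (op U) s)
  have hd : G.obj.map ((EtLim24.bcc v u w e).inv.app U).op d =
      ((EtLim24.pullT v u w e).hom.app F).hom.app (op ((EtCoh.bc w).obj U))
        (((EtCoh.pullPushAdj w).unit.app F).hom.app (op U) s) := by
    refine (EtLim24.pc_app v u w e G U d).symm.trans ?_
    exact congrArg (fun m : F ⟶ (EtCoh.push w).obj G => m.hom.app (op U) s) hη
  rw [sec_apply w, NatTrans.naturality_apply ((EtLim24.pullT v u w e).hom.app F).hom (topLift w U _ hy').op]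
  refine Eq.trans ?_ (congrArg (G.obj.map (topLift w U (y ≫ pullback.fst U.hom u) hy').op) hd)
  rw [sec_apply v, ← Functor.map_comp_apply, ← op_comp]
  refine congrArg (fun m : EtCoh.top A ⟶ (EtCoh.bc v).obj ((EtCoh.bc u).obj U) => G.obj.map m.op d) ?_
  refine EtLim24.bc_hom_ext₂ ?_
  rw [EtLim24.comp_left']
  simp only [Category.assoc]
  refine Eq.trans ?_ (congrArg ((topLift w U (y ≫ pullback.fst U.hom u) hy').left ≫ ·)
    (EtLim24.bcc_inv_left_fst v u w e U)).symm
  rw [topLift_fst]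
  exact (Category.assoc _ _ _).symm.trans (congrArg (· ≫ pullback.fst U.hom u) (topLift_fst v _ y hy))

variable {X S Y T : Scheme.{u}} (f : X ⟶ S) (g : T ⟶ S) (h : Y ⟶ X) (e : Y ⟶ T) (w : e ≫ g = h ≫ f)

/-- The base change of an étale scheme in two ways. -/
noncomputable def sqHom (V : S.Etale) :
    (EtCoh.bc h).obj ((EtCoh.bc f).obj V) ⟶ (EtCoh.bc e).obj ((EtCoh.bc g).obj V) :=
  (EtLim24.bcc h f (h ≫ f) rfl).hom.app V ≫ (EtLim24.bcc e g (h ≫ f) w).inv.app V

lemma sqHom_fst (V : S.Etale) :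
    (sqHom f g h e w V).left ≫ pullback.fst ((EtCoh.bc g).obj V).hom e ≫ pullback.fst V.hom g =
      pullback.fst ((EtCoh.bc f).obj V).hom h ≫ pullback.fst V.hom f := by
  rw [sqHom, EtLim24.comp_left', Category.assoc]
  exact (congrArg (((EtLim24.bcc h f (h ≫ f) rfl).hom.app V).left ≫ ·)
    (EtLim24.bcc_inv_left_fst e g (h ≫ f) w V)).trans (EtLim24.bcc_hom_left_fst h f (h ≫ f) rfl V)

theorem sqPush_app {I : EtCoh.Ab T} {J : EtCoh.Ab Y} (β : I ⟶ (EtCoh.push e).obj J) (V : S.Etale)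
    (s : I.obj.obj (op ((EtCoh.bc g).obj V))) :
    (StalkLim24.sqPush f g h e w β).hom.app (op V) s =
      J.obj.map (sqHom f g h e w V).op (β.hom.app (op ((EtCoh.bc g).obj V)) s) := by
  let d := β.hom.app (op ((EtCoh.bc g).obj V)) s
  let D := (StalkLim24.sqPush f g h e w β).hom.app (op V) s
  have e1 : (StalkLim24.sqPush f g h e w β) ≫ (EtLim24.pc h f (h ≫ f) rfl).hom.app J =
      (EtCoh.push g).map β ≫ (EtLim24.pc e g (h ≫ f) w).hom.app J := by
    simp [StalkLim24.sqPush, EtLim24.pc, EtAcyc24.pushCongr_refl_hom]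
  have e2 : J.obj.map ((EtLim24.bcc h f (h ≫ f) rfl).inv.app V).op D =
      J.obj.map ((EtLim24.bcc e g (h ≫ f) w).inv.app V).op d := by
    refine (EtLim24.pc_app h f (h ≫ f) rfl J V D).symm.trans ?_
    refine Eq.trans ?_ (EtLim24.pc_app e g (h ≫ f) w J V d)
    exact congrArg (fun m : (EtCoh.push g).obj I ⟶ (EtCoh.push (h ≫ f)).obj J => m.hom.app (op V) s) e1
  rw [sqHom, op_comp, Functor.map_comp_apply]
  refine Eq.trans ?_ (congrArg (J.obj.map ((EtLim24.bcc h f (h ≫ f) rfl).hom.app V).op) e2)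
  rw [← Functor.map_comp_apply, ← op_comp, Iso.hom_inv_id_app, op_id]
  exact (ConcreteCategory.congr_hom (J.obj.map_id _) D).symm

end Groth.Agent.PointLim24
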