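import Groth.Agent.Lib.PointLim24.SecFibres

/-!
# The fibre criterion for pullback of global sections
-/

set_option autoImplicit false
set_option linter.style.haveILetI false
set_option linter.unusedSectionVars false
set_option backward.isDefEq.respectTransparency false
set_option backward.isDefEq.respectTransparency.types false

universe u

open CategoryTheory CategoryTheory.Limits AlgebraicGeometry Opposite

namespace Groth.Agent.PointLim24

open Groth.Agent.EtStalk Groth.Agent.StrictLim24

variable {K B : Type u} [Field K] [IsSepClosed K] [CommRing B] [Algebra K B] (hB : IsSplit K B)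
  {Z : Scheme.{u}} (m : Z ⟶ Spec (CommRingCat.of B)) [QuasiCompact m] [QuasiSeparated m]
  (G : EtCoh.Ab (Spec (CommRingCat.of B)))

/-- Two maps agreeing after surjections with the same fibres. -/
lemma bij_iff_of_surjective {T P Q R S : Type*} (a : T → P) (b : T → Q) (β : Q → P) (ha : Function.Surjective a)
    (hβ : Function.Bijective β) (hab : ∀ t, β (b t) = a t) (L : P → R) (M : Q → S) (Φ : S → R)
    (hΦ : Function.Bijective Φ) (h : ∀ t, L (a t) = Φ (M (b t))) :
    Function.Bijective L ↔ Function.Bijective M := by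
  have hb : Function.Surjective b := fun q => by
    obtain ⟨t, ht⟩ := ha (β q)
    exact ⟨t, hβ.1 ((hab t).trans ht)⟩
  have e : L ∘ β = Φ ∘ M := funext fun q => by
    obtain ⟨t, rfl⟩ := hb q
    show L (β (b t)) = Φ (M (b t))
    rw [hab, h]
  exact (Function.Bijective.of_comp_iff L hβ).symm.trans
    ((iff_of_eq (congrArg Function.Bijective e)).trans (Function.Bijective.of_comp_iff' hΦ M))

lemma bij_iff_of_surjective' {T P P' Q R S : Type*} (u : P → P') (θ : P' → R) (hθ : Function.Bijective θ)
    (a : T → P) (b : T → Q) (β : Q → P) (ha : Function.Surjective a)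
    (hβ : Function.Bijective β) (hab : ∀ t, β (b t) = a t) (M : Q → S) (Φ : S → R)
    (hΦ : Function.Bijective Φ) (h : ∀ t, θ (u (a t)) = Φ (M (b t))) :
    Function.Bijective u ↔ Function.Bijective M :=
  (Function.Bijective.of_comp_iff' hθ u).symm.trans (bij_iff_of_surjective a b β ha hβ hab _ M Φ hΦ h)

/-- Sections on a point against germs. -/
theorem exists_point_compare {C : Scheme.{u}} (σ : Spec (CommRingCat.of K) ⟶ C) (F : EtCoh.Ab C)
    [IsSepClosed (IsLocalRing.ResidueField K)] (v : fib (closedPt K ≫ σ) (EtCoh.top C)) :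
    ∃ β : ((EtCoh.pull σ).obj F).obj.obj (op (EtCoh.top (Spec (CommRingCat.of K)))) →
        (EtCoh.stalk (closedPt K ≫ σ)).obj F,
      Function.Bijective β ∧ ∀ t, β (sec σ F (EtCoh.top C) σ (Category.comp_id σ) t) = germ (closedPt K ≫ σ) F v t := by
  let φ : fib (closedPt K) (EtCoh.top (Spec (CommRingCat.of K))) := Over.homMk (closedPt K) (Category.comp_id _)
  let gσ := topLift σ (EtCoh.top C) σ (Category.comp_id σ)
  let ψ := (Scheme.pointSmallEtale (closedPt K)).fiber.map gσ φ
  have hψ : ψ = liftFib σ (closedPt K) v := by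
    have hd : dropFib σ (closedPt K) ψ = v := Over.OverMorphism.ext (by
      have h := Over.w v
      exact ((Category.comp_id _).symm.trans (Over.w (dropFib σ (closedPt K) ψ))).trans
        (h.symm.trans (Category.comp_id _)))
    rw [← hd]
    exact (((fiberIso σ (closedPt K)).app (EtCoh.top C)).toEquiv.apply_symm_apply ψ).symm
  refine ⟨fun z => inv (stalkPull σ (closedPt K) F) (germ (closedPt K) ((EtCoh.pull σ).obj F) φ z),
    (ConcreteCategory.bijective_of_isIso (inv (stalkPull σ (closedPt K) F))).comp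
      (bijective_germ_sections ((EtCoh.pull σ).obj F) _ (closedPt K) φ), fun t => ?_⟩
  have h1 : germ (closedPt K) ((EtCoh.pull σ).obj F) φ (sec σ F (EtCoh.top C) σ (Category.comp_id σ) t) =
      stalkPull σ (closedPt K) F (germ (closedPt K ≫ σ) F v t) := by
    rw [sec_apply]
    refine (germ_map (closedPt K) ((EtCoh.pull σ).obj F) gσ φ _).trans ?_
    refine (congrArg (fun r : fib (closedPt K) _ => germ (closedPt K) ((EtCoh.pull σ).obj F) r _) hψ).trans ?_
    exact (germ_stalkPull σ (closedPt K) F v t).symm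
  exact (congrArg (inv (stalkPull σ (closedPt K) F)) h1).trans (hom_inv_apply (stalkPull σ (closedPt K) F) _)

/-- The unit followed by restriction to a square. -/
theorem exists_square_compare {W A A' C : Scheme.{u}} (fs : W ⟶ A) (m : A ⟶ C) (sn : W ⟶ A') (σ : A' ⟶ C)
    (hw : sn ≫ σ = fs ≫ m) (F : EtCoh.Ab C) (y : W ⟶ ((EtCoh.bc m).obj (EtCoh.top C)).left)
    (hy : y ≫ ((EtCoh.bc m).obj (EtCoh.top C)).hom = fs)
    (hy' : y ≫ pullback.fst (EtCoh.top C).hom m = sn ≫ σ) :
    ∃ J : ((EtCoh.pull sn).obj ((EtCoh.pull σ).obj F)).obj.obj (op (EtCoh.top W)) →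
        ((EtCoh.pull fs).obj ((EtCoh.pull m).obj F)).obj.obj (op (EtCoh.top W)),
      Function.Bijective J ∧ ∀ t,
        sec fs ((EtCoh.pull m).obj F) ((EtCoh.bc m).obj (EtCoh.top C)) y hy
          (((EtCoh.pullPushAdj m).unit.app F).hom.app (op (EtCoh.top C)) t) =
        J (sec sn ((EtCoh.pull σ).obj F) (EtCoh.top A') sn (Category.comp_id sn)
          (sec σ F (EtCoh.top C) σ (Category.comp_id σ) t)) := by
  let Φ₁ := ((EtLim24.pullT fs m (fs ≫ m) rfl).hom.app F).hom.app (op (EtCoh.top W))
  let Φ₂ := ((EtLim24.pullT sn σ (fs ≫ m) hw).hom.app F).hom.app (op (EtCoh.top W))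
  haveI : IsIso Φ₁ := inferInstanceAs (IsIso (((sheafToPresheaf _ _).map
    ((EtLim24.pullT fs m (fs ≫ m) rfl).hom.app F)).app _))
  haveI : IsIso Φ₂ := inferInstanceAs (IsIso (((sheafToPresheaf _ _).map
    ((EtLim24.pullT sn σ (fs ≫ m) hw).hom.app F)).app _))
  refine ⟨fun z => Φ₁ (inv Φ₂ z),
    (ConcreteCategory.bijective_of_isIso Φ₁).comp (ConcreteCategory.bijective_of_isIso (inv Φ₂)), fun t => ?_⟩
  refine (sec_unit fs m (fs ≫ m) rfl F (EtCoh.top C) y hy (fs ≫ m) (Category.comp_id _) (hy'.trans hw) t).trans ?_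
  refine Eq.trans ?_ (congrArg (fun r => Φ₁ (inv Φ₂ r))
    (sec_sec sn σ (fs ≫ m) hw F (EtCoh.top C) σ (Category.comp_id σ) (fs ≫ m) (Category.comp_id _) hw t)).symm
  exact congrArg Φ₁ (hom_inv_apply Φ₂ _).symm

/-- The germ of a unit. -/
theorem theta_unit {A C : Scheme.{u}} (m : A ⟶ C) (F : EtCoh.Ab C) {Ω : Type u} [Field Ω] [IsSepClosed Ω]
    (η : Spec (CommRingCat.of Ω) ⟶ C) (v : fib η (EtCoh.top C)) {R : Type*}
    (θ : (EtCoh.stalk η).obj ((EtCoh.push m).obj ((EtCoh.pull m).obj F)) → R)
    (t : F.obj.obj (op (EtCoh.top C))) :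
    θ ((EtCoh.stalk η).map ((EtCoh.pullPushAdj m).unit.app F) (germ η F v t)) =
      θ (germ η ((EtCoh.push m).obj ((EtCoh.pull m).obj F)) v
        (((EtCoh.pullPushAdj m).unit.app F).hom.app (op (EtCoh.top C)) t)) :=
  congrArg θ (germ_nat η _ v t)

include hB in
/-- The unit at a point and pullback of sections to the fibre. -/
theorem exists_stalk_unit_iff (χ : B →ₐ[K] K) :
    ∃ (η : Spec (CommRingCat.of (IsLocalRing.ResidueField K)) ⟶ Spec (CommRingCat.of B))
      (_ : IsSepClosed (IsLocalRing.ResidueField K)), η default = pt χ ∧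
      (Function.Bijective ((EtCoh.stalk η).map ((EtCoh.pullPushAdj m).unit.app G)) ↔
        Function.Bijective (sec (pullback.snd m (Spec.map (CommRingCat.ofHom χ.toRingHom)))
          ((EtCoh.pull (Spec.map (CommRingCat.ofHom χ.toRingHom))).obj G) (EtCoh.top (Spec (CommRingCat.of K)))
          (pullback.snd m (Spec.map (CommRingCat.ofHom χ.toRingHom))) (Category.comp_id _))) := by
  haveI : IsSepClosed (IsLocalRing.ResidueField K) := Groth.Agent.EtDesc24.isSepClosed_residueField K
  obtain ⟨_, _, _, hσ⟩ := exists_strict_pt hB χ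
  rw [← hσ]
  let σ := Hens2.specOf (Spec (CommRingCat.of B)) (pt χ) K
  let η := closedPt K ≫ σ
  let T := EtCoh.top (Spec (CommRingCat.of B))
  let TK := EtCoh.top (Spec (CommRingCat.of K))
  let sn := pullback.snd m σ
  let fs := pullback.fst m σ
  let w := fs ≫ m
  have hw : sn ≫ σ = w := pullback.condition.symm
  refine ⟨η, inferInstance, ?_, ?_⟩
  · show (closedPt K ≫ σ) default = _
    rw [show σ = Spec.map (CommRingCat.ofHom χ.toRingHom) from hσ, Scheme.Hom.comp_apply]
    exact congrArg _ (Subsingleton.elim (α := PrimeSpectrum K) _ _)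
  obtain ⟨Θ, hΘ, hΘ'⟩ := exists_theta m ((EtCoh.pull m).obj G) (pt χ) K
  let v : fib η T := Over.homMk η (Category.comp_id _)
  have hl : σ ≫ T.hom = σ := Category.comp_id _
  obtain ⟨β, hβ, hab⟩ := exists_point_compare σ G v
  let y : pullback m σ ⟶ ((EtCoh.bc m).obj T).left := pullback.lift (sn ≫ σ) fs (by
    rw [hw]; exact Category.comp_id _)
  have hy : y ≫ ((EtCoh.bc m).obj T).hom = fs := pullback.lift_snd _ _ _
  have hy' : y ≫ pullback.fst T.hom m = sn ≫ σ := pullback.lift_fst _ _ _
  obtain ⟨J, hJ, hJ'⟩ := exists_square_compare fs m sn σ hw G y hy hy'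
  exact bij_iff_of_surjective' ((EtCoh.stalk η).map ((EtCoh.pullPushAdj m).unit.app G)) Θ hΘ
    (germ η G v) (sec σ G T σ (Category.comp_id σ)) β (surjective_germ_top hB G η v) hβ hab
    (sec sn ((EtCoh.pull σ).obj G) TK sn (Category.comp_id sn)) J hJ
    (fun t => (theta_unit m G η v Θ t).trans ((hΘ' T v σ hl rfl y hy hy' _).trans (hJ' t)))

include hB in
/-- Pullback of global sections is bijective iff it is on all fibres. -/
theorem bijective_sec_iff_fibres :
    Function.Bijective (sec m G (EtCoh.top (Spec (CommRingCat.of B))) m (Category.comp_id m)) ↔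
      ∀ χ : B →ₐ[K] K, Function.Bijective (sec (pullback.snd m (Spec.map (CommRingCat.ofHom χ.toRingHom)))
        ((EtCoh.pull (Spec.map (CommRingCat.ofHom χ.toRingHom))).obj G) (EtCoh.top (Spec (CommRingCat.of K)))
        (pullback.snd m (Spec.map (CommRingCat.ofHom χ.toRingHom))) (Category.comp_id _)) := by
  let u := (EtCoh.pullPushAdj m).unit.app G
  let P := Spec (CommRingCat.of B)
  rw [← bijective_unit_top_iff]
  constructor
  · intro h χ
    haveI : (EtCore.gsec P).Additive := (EtCore.constAdj P).right_adjoint_additive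
    haveI : Mono u := by
      refine Preadditive.mono_of_isZero_kernel u (isZero_of_top hB _ (subsingleton_of_forall_eq 0 fun z => ?_))
      have h1 : (kernel.ι u).hom.app (op (EtCoh.top P)) z = 0 := by
        refine h.1 ?_
        rw [map_zero]
        have h0 := congrArg (fun q : kernel u ⟶ _ => q.hom.app (op (EtCoh.top P)) z) (kernel.condition u)
        exact h0
      haveI := (EtCore.constAdj P).isRightAdjoint
      haveI : Mono ((EtCore.gsec P).map (kernel.ι u)) := inferInstance
      exact (AddCommGrpCat.mono_iff_injective _).1 ‹_› (h1.trans (map_zero _).symm)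
    haveI : Epi u := by
      refine Preadditive.epi_of_isZero_cokernel u (isZero_of_top hB _ (subsingleton_of_forall_eq 0 fun z => ?_))
      obtain ⟨z', rfl⟩ := surjective_top_of_epi hB (cokernel.π u) z
      obtain ⟨z'', rfl⟩ := h.2 z'
      exact congrArg (fun q : G ⟶ _ => q.hom.app (op (EtCoh.top P)) z'') (cokernel.condition u)
    haveI : IsIso u := isIso_of_mono_of_epi u
    obtain ⟨η, _, -, hiff⟩ := exists_stalk_unit_iff hB m G χ
    exact hiff.1 (ConcreteCategory.bijective_of_isIso ((EtCoh.stalk η).map u))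
  · intro h
    haveI : Mono u := by
      refine Preadditive.mono_of_isZero_kernel u ?_
      rw [isZero_iff_stalk]
      intro Ω _ _ ξ
      obtain ⟨χ, hχ⟩ := exists_pt hB (ξ default)
      obtain ⟨η, _, hη, hiff⟩ := exists_stalk_unit_iff hB m G χ
      refine Constr24.isZero_stalk_congr ξ η (hχ.symm.trans hη.symm) (subsingleton_of_forall_eq 0 fun a => ?_)
      refine (mono_iff_stalk (kernel.ι u)).1 inferInstance _ η ((hiff.2 (h χ)).1 ?_)
      rw [map_zero, map_zero]
      have h0 : (EtCoh.stalk η).map (kernel.ι u ≫ u) a = 0 := by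
        haveI : PreservesBinaryBiproducts (EtCoh.stalk η) := preservesBinaryBiproducts_of_preservesBinaryProducts _
        haveI : (EtCoh.stalk η).Additive := Functor.additive_of_preservesBinaryBiproducts _
        rw [kernel.condition, Functor.map_zero]
        rfl
      exact (Functor.map_comp_apply _ (kernel.ι u) u a).symm.trans h0
    haveI : IsIso u := (isIso_iff_stalk u).2 fun Ω _ _ ξ => by
      obtain ⟨χ, hχ⟩ := exists_pt hB (ξ default)
      obtain ⟨η, _, hη, hiff⟩ := exists_stalk_unit_iff hB m G χ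
      exact ⟨(mono_iff_stalk u).1 inferInstance Ω ξ,
        Constr24.surjective_stalk_congr u ξ η (hχ.symm.trans hη.symm) (hiff.2 (h χ)).2⟩
    exact ConcreteCategory.bijective_of_isIso (((sheafToPresheaf _ _).map u).app _)

end Groth.Agent.PointLim24
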