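import Groth.Agent.Lib.PointLim24.PointCase
import Mathlib.AlgebraicGeometry.Morphisms.FlatMono

/-!
# Pullback of global sections over a locally constant spectrum is checked on the fibres
-/

set_option autoImplicit false
set_option linter.style.haveILetI false
set_option linter.unusedSectionVars false
set_option backward.isDefEq.respectTransparency false
set_option backward.isDefEq.respectTransparency.types false

universe u

open CategoryTheory CategoryTheory.Limits AlgebraicGeometry Opposite

namespace Groth.Agent.PointLim24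

open Groth.Agent.EtStalk Groth.Agent.StrictLim24

section General

variable {A C : Scheme.{u}}

theorem isIso_topLift_top (m : A ⟶ C) : IsIso (topLift m (EtCoh.top C) m (Category.comp_id m)) := by
  refine ⟨MorphismProperty.Over.homMk (pullback.snd (EtCoh.top C).hom m) (Category.comp_id _), ?_, ?_⟩
  · refine MorphismProperty.Over.Hom.ext ?_
    refine (EtLim24.comp_left' _ _).trans ?_
    exact pullback.lift_snd _ _ _
  · refine MorphismProperty.Over.Hom.ext ?_
    refine (EtLim24.comp_left' _ _).trans ?_
    refine pullback.hom_ext ?_ ?_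
    · refine (Category.assoc _ _ _).trans ((congrArg (pullback.snd (EtCoh.top C).hom m ≫ ·) (topLift_fst m (EtCoh.top C) m _)).trans ?_)
      exact (pullback.condition.symm.trans (Category.comp_id _)).trans (Category.id_comp _).symm
    · refine (Category.assoc _ _ _).trans ((congrArg (pullback.snd (EtCoh.top C).hom m ≫ ·) (pullback.lift_snd _ _ _)).trans ?_)
      exact (Category.comp_id _).trans (Category.id_comp _).symm

/-- Pulling back global sections is the unit on global sections. -/
theorem bijective_unit_top_iff (m : A ⟶ C) (G : EtCoh.Ab C) :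
    Function.Bijective (((EtCoh.pullPushAdj m).unit.app G).hom.app (op (EtCoh.top C))) ↔
      Function.Bijective (sec m G (EtCoh.top C) m (Category.comp_id m)) := by
  haveI := isIso_topLift_top m
  exact (Function.Bijective.of_comp_iff' (ConcreteCategory.bijective_of_isIso
    (((EtCoh.pull m).obj G).obj.map (topLift m (EtCoh.top C) m (Category.comp_id m)).op)) _).symm

end General

variable {K B : Type u} [Field K] [IsSepClosed K] [CommRing B] [Algebra K B] (hB : IsSplit K B)

include hB in
/-- Global sections surject onto every stalk. -/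
theorem surjective_germ_top (F : EtCoh.Ab (Spec (CommRingCat.of B))) {Ω : Type u} [Field Ω] [IsSepClosed Ω]
    (η : Spec (CommRingCat.of Ω) ⟶ Spec (CommRingCat.of B)) (φ : fib η (EtCoh.top (Spec (CommRingCat.of B)))) :
    Function.Surjective (germ η F φ) := fun p => by
  obtain ⟨V, v, s, rfl⟩ := germ_surjective η F p
  obtain ⟨e, σ, he, hwe, hσw⟩ := exists_section hB V (fibPt v)
  let d : Fin 2 → B := ![e, 1 - e]
  have hdisj : ∀ j k, j ≠ k → d j * d k = 0 := fun j k hjk => by
    fin_cases j <;> fin_cases k <;> simp [d, mul_sub, sub_mul, he.eq] at hjk ⊢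
  have hcov : ∀ q : PrimeSpectrum B, ∃ k, q ∈ PrimeSpectrum.basicOpen (d k) := fun q => by
    by_cases hq : e ∈ q.asIdeal
    · exact ⟨1, fun h1 => q.isPrime.ne_top ((Ideal.eq_top_iff_one _).2 (by simpa [d] using q.asIdeal.add_mem hq h1))⟩
    · exact ⟨0, hq⟩
  let toTop : ∀ k, basic (d k) ⟶ EtCoh.top (Spec (CommRingCat.of B)) := fun k =>
    MorphismProperty.Over.homMk (basic (d k)).hom (Category.comp_id _)
  obtain ⟨x, hx⟩ := exists_glue d hdisj hcov F
    (Fin.cons (α := fun k => F.obj.obj (op (basic (d k)))) (F.obj.map σ.op s) (fun _ => 0)) toTop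
  refine ⟨x, ?_⟩
  obtain ⟨y, hy⟩ : V.hom (fibPt v) ∈ Set.range (basic e).hom :=
    (PrimeSpectrum.localization_away_comap_range (Localization.Away e) e).ge hwe
  haveI : IsOpenImmersion (basic e).hom := IsOpenImmersion.of_isLocalization e
  haveI := etale_left σ
  haveI : Mono (σ.left ≫ V.hom) := by
    rw [MorphismProperty.Over.w σ]
    infer_instance
  haveI : Mono σ.left := mono_of_mono σ.left V.hom
  haveI : IsOpenImmersion σ.left := IsOpenImmersion.of_flat_of_mono σ.left
  let vl : Spec (CommRingCat.of Ω) ⟶ V.left := v.left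
  have hrange : Set.range vl ⊆ Set.range σ.left := by
    rintro _ ⟨z, rfl⟩
    exact ⟨y, (hσw y hy).trans (congrArg vl (Subsingleton.elim (α := PrimeSpectrum Ω) _ _))⟩
  let ψl := IsOpenImmersion.lift σ.left vl hrange
  let ψ : fib η (basic e) := Over.homMk ψl (by
    show ψl ≫ (basic e).hom = η
    rw [← MorphismProperty.Over.w σ, ← Category.assoc, IsOpenImmersion.lift_fac]
    exact Over.w v)
  have h1 : germ η F ψ (F.obj.map (toTop 0).op x) = germ η F φ x := by
    refine (germ_map η F (toTop 0) ψ x).trans (congrArg (fun r : fib η _ => germ η F r x) (Over.OverMorphism.ext ?_))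
    have h2 := Over.w φ
    have h3 := Over.w ((Scheme.pointSmallEtale η).fiber.map (toTop 0) ψ)
    exact (Category.comp_id _).symm.trans ((h3.trans h2.symm).trans (Category.comp_id _))
  rw [← h1, hx 0]
  refine (germ_map η F σ ψ s).trans (congrArg (fun r : fib η V => germ η F r s) (Over.OverMorphism.ext ?_))
  exact IsOpenImmersion.lift_fac σ.left vl hrange

include hB in
/-- The strict localization of a locally constant spectrum at a point is the field. -/
theorem exists_strict_pt (χ : B →ₐ[K] K) :
    ∃ (_ : Algebra ((Spec (CommRingCat.of B)).presheaf.stalk (pt χ)) K)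
      (_ : IsLocalHom (algebraMap ((Spec (CommRingCat.of B)).presheaf.stalk (pt χ)) K))
      (_ : Hensel.IsStrictHenselization ((Spec (CommRingCat.of B)).presheaf.stalk (pt χ)) K),
      Hens2.specOf (Spec (CommRingCat.of B)) (pt χ) K = Spec.map (CommRingCat.ofHom χ.toRingHom) := by
  let p := pt χ
  let p' : PrimeSpectrum B := p
  let S := (Spec (CommRingCat.of B)).presheaf.stalk p
  letI : Algebra B S := StructureSheaf.stalkAlgebra B p'
  haveI : IsLocalization.AtPrime S p'.asIdeal := StructureSheaf.IsLocalization.to_stalk B p'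
  have hunit : ∀ y : p'.asIdeal.primeCompl, IsUnit (χ.toRingHom y) := fun ⟨y, hy⟩ =>
    isUnit_iff_ne_zero.2 fun h => hy ((pt_asIdeal χ).ge h)
  let a : S →+* K := IsLocalization.lift hunit
  letI : Algebra S K := a.toAlgebra
  have ha : ∀ b : B, a (algebraMap B S b) = χ b := fun b => IsLocalization.lift_eq _ b
  have hbij : Function.Bijective a := by
    refine ⟨(injective_iff_map_eq_zero a).2 fun z hz => ?_, fun c => ⟨algebraMap B S (algebraMap K B c),
      (ha _).trans (χ.commutes c)⟩⟩
    obtain ⟨x, s, rfl⟩ := IsLocalization.exists_mk'_eq p'.asIdeal.primeCompl z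
    have hx : χ x = 0 := by
      have h := congrArg a (IsLocalization.mk'_spec S x s)
      rw [map_mul, hz, zero_mul, ha] at h
      exact h.symm
    obtain ⟨e, c, -, he, hex⟩ := hB x p'.asIdeal p'.isPrime
    have hc : c = 0 := by
      have h := congrArg χ hex
      rw [map_mul, map_mul, hx, mul_zero, AlgHom.commutes] at h
      exact ((mul_eq_zero.1 h.symm).resolve_left fun h' => he ((pt_asIdeal χ).ge h'))
    rw [IsLocalization.mk'_eq_zero_iff]
    exact ⟨⟨e, he⟩, by rw [hex, hc, map_zero, mul_zero]⟩
  haveI : IsLocalHom (algebraMap S K) :=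
    ⟨fun z hz => by
      obtain ⟨w, hw⟩ := hbij.2 ↑(hz.unit⁻¹)
      exact IsUnit.of_mul_eq_one w (hbij.1 (by rw [map_mul, hw, map_one]; exact hz.mul_val_inv))⟩
  haveI : IsSepClosed (IsLocalRing.ResidueField K) := Groth.Agent.EtDesc24.isSepClosed_residueField K
  haveI hR : Hensel.IsStrictHenselization S K :=
    { henselian := inferInstance
      isSepClosure := ⟨inferInstance, by
        have hs : Function.Surjective (algebraMap (IsLocalRing.ResidueField S) (IsLocalRing.ResidueField K)) := fun z => by
          obtain ⟨z, rfl⟩ := IsLocalRing.residue_surjective z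
          obtain ⟨w, rfl⟩ := hbij.2 z
          exact ⟨IsLocalRing.residue S w, rfl⟩
        exact ⟨fun z => by
          obtain ⟨w, rfl⟩ := hs z
          exact isSeparable_algebraMap w⟩⟩
      universal := fun T _ _ f _ τ hτ => by
        let ε : S ≃+* K := RingEquiv.ofBijective a hbij
        refine ⟨f.comp ε.symm.toRingHom, ⟨RingHom.ext fun z => congrArg f (ε.symm_apply_apply z), fun z => ?_⟩,
          fun g hg => RingHom.ext fun z => ?_⟩
        · obtain ⟨w, rfl⟩ := ε.surjective z
          show IsLocalRing.residue T (f (ε.symm (ε w))) = _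
          rw [ε.symm_apply_apply]
          exact (congrArg (fun t => t (IsLocalRing.residue S w)) hτ).symm
        · obtain ⟨w, rfl⟩ := ε.surjective z
          show g (algebraMap S K w) = f (ε.symm (ε w))
          rw [ε.symm_apply_apply, ← hg.1]
          rfl }
  have hspec : Hens2.specOf (Spec (CommRingCat.of B)) p K = Spec.map (CommRingCat.ofHom χ.toRingHom) := by
    show Spec.map _ ≫ _ = _
    rw [Spec.fromSpecStalk_eq', ← Spec.map_comp]
    exact congrArg Spec.map (CommRingCat.hom_ext (RingHom.ext ha))
  exact ⟨a.toAlgebra, inferInstance, hR, hspec⟩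

end Groth.Agent.PointLim24
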