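import Groth.Agent.Lib.PointLim24.Split
import Groth.Prelude.Def_EtBase
import Mathlib.AlgebraicGeometry.Morphisms.Etale
import Mathlib.RingTheory.Unramified.LocalRing
import Mathlib.RingTheory.Localization.Away.Basic

/-!
# Étale schemes over a locally constant algebra have local sections through every point
-/

set_option autoImplicit false
set_option linter.style.haveILetI false
set_option backward.isDefEq.respectTransparency.types false

universe u

open CategoryTheory CategoryTheory.Limits AlgebraicGeometry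

namespace Groth.Agent.PointLim24

variable {K B : Type u} [Field K] [CommRing B] [Algebra K B]

section Algebra

theorem IsSplit.exists_const (hB : IsSplit K B) (p : Ideal B) [hp : p.IsPrime] (x : B) :
    ∃ c : K, x - algebraMap K B c ∈ p := by
  obtain ⟨e, c, -, hep, h⟩ := hB x p hp
  refine ⟨c, (hp.mem_or_mem (x := e) ?_).resolve_left hep⟩
  rw [mul_sub, h, sub_self]
  exact p.zero_mem

theorem const_eq_zero (p : Ideal B) [hp : p.IsPrime] {c : K} (h : algebraMap K B c ∈ p) : c = 0 := by
  by_contra hc
  exact hp.ne_top (p.eq_top_of_isUnit_mem h ((isUnit_iff_ne_zero.2 hc).map _))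

variable [IsSepClosed K] (hB : IsSplit K B) {C : Type u} [CommRing C] [Algebra B C] [Algebra.Etale B C]

include hB in
/-- On an étale algebra every element is a constant at every prime. -/
theorem exists_const_etale (q : Ideal C) [q.IsPrime] (x : C) :
    ∃ c : K, x - algebraMap B C (algebraMap K B c) ∈ q := by
  let p := q.under B
  let ι : K →+* p.ResidueField := (algebraMap B p.ResidueField).comp (algebraMap K B)
  have hι : Function.Surjective ι := fun z => by
    obtain ⟨a, b, hb, rfl⟩ := IsFractionRing.div_surjective (B ⧸ p) z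
    obtain ⟨a, rfl⟩ := Ideal.Quotient.mk_surjective a
    obtain ⟨b, rfl⟩ := Ideal.Quotient.mk_surjective b
    obtain ⟨ca, hca⟩ := hB.exists_const p a
    obtain ⟨cb, hcb⟩ := hB.exists_const p b
    refine ⟨ca / cb, ?_⟩
    rw [map_div₀, ← Ideal.Quotient.eq.2 hca |>.symm, ← Ideal.Quotient.eq.2 hcb |>.symm]
    rfl
  let e : K ≃+* p.ResidueField := RingEquiv.ofBijective ι ⟨ι.injective, hι⟩
  haveI : IsSepClosed p.ResidueField := IsSepClosed.of_exists_root _ fun P hm hirr hs => by
    obtain ⟨z, hz⟩ := IsSepClosed.exists_root (P.map e.symm.toRingHom)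
      (by rw [Polynomial.degree_map]; exact (Polynomial.degree_pos_of_irreducible hirr).ne') hs.map
    refine ⟨e z, (map_eq_zero_iff _ e.symm.injective).1 ?_⟩
    rw [Polynomial.IsRoot, Polynomial.eval_map] at hz
    have h2 := (Polynomial.eval₂_at_apply (p := P) e.symm.toRingHom (e z)).symm
    rw [show e.symm.toRingHom (e z) = z from e.symm_apply_apply z] at h2
    exact h2.trans hz
  haveI : q.LiesOver p := ⟨rfl⟩
  letI := Localization.AtPrime.algebraOfLiesOver p q
  haveI : Algebra.IsUnramifiedAt B q := inferInstance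
  obtain ⟨y, hy⟩ := algebraMap_surjective_of_separable (K := p.ResidueField) q.ResidueField
    (algebraMap C q.ResidueField x)
  obtain ⟨c, rfl⟩ := hι y
  refine ⟨c, Ideal.algebraMap_residueField_eq_zero.1 ?_⟩
  rw [map_sub, ← IsScalarTower.algebraMap_apply, ← hy, sub_eq_zero]
  exact (IsScalarTower.algebraMap_apply B p.ResidueField q.ResidueField (algebraMap K B c)).symm

include hB in
/-- An étale algebra has a section over a clopen neighbourhood, through a given prime. -/
theorem exists_hom_etale (q : Ideal C) [hq : q.IsPrime] :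
    ∃ e : B, IsIdempotentElem e ∧ e ∉ q.under B ∧ ∃ ψ : C →ₐ[B] Localization.Away e,
      ∀ P : Ideal (Localization.Away e), P.comap (algebraMap B (Localization.Away e)) = q.under B →
        P.comap ψ = q := by
  classical
  obtain ⟨n, f, hf, hker⟩ := (Algebra.FinitePresentation.out : ∃ (n : ℕ)
    (f : MvPolynomial (Fin n) B →ₐ[B] C), Function.Surjective f ∧ (RingHom.ker f.toRingHom).FG)
  choose c hc using fun i => exists_const_etale hB q (f (MvPolynomial.X i))
  let ev : MvPolynomial (Fin n) B →ₐ[B] B := MvPolynomial.aeval fun i => algebraMap K B (c i)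
  have hev : ∀ P, f P - algebraMap B C (ev P) ∈ q := fun P => by
    let μ := Ideal.Quotient.mkₐ B q
    have h : μ.comp f = (μ.comp (Algebra.ofId B C)).comp ev := MvPolynomial.algHom_ext fun i => by
      simp only [AlgHom.comp_apply, ev, MvPolynomial.aeval_X, Algebra.ofId_apply]
      exact Ideal.Quotient.eq.2 (hc i)
    exact Ideal.Quotient.eq.1 (congrArg (fun t : _ →ₐ[B] _ => t P) h)
  obtain ⟨s, hs⟩ := hker
  have hrel : ∀ r ∈ s, ∃ e : B, IsIdempotentElem e ∧ e ∉ q.under B ∧ e * ev r = 0 := fun r hr => by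
    have h0 : f r = 0 := (show r ∈ RingHom.ker f.toRingHom from hs ▸ Ideal.subset_span hr)
    have hp : ev r ∈ q.under B := by
      have h := hev r
      rwa [h0, zero_sub, neg_mem_iff] at h
    obtain ⟨e, c', he, hep, h⟩ := hB (ev r) (q.under B) inferInstance
    have hc' : c' = 0 := const_eq_zero (q.under B) (((Ideal.IsPrime.mem_or_mem (I := q.under B) inferInstance)
      (h ▸ Ideal.mul_mem_left _ e hp)).resolve_left hep)
    exact ⟨e, he, hep, by rw [h, hc', map_zero, mul_zero]⟩
  choose e he hep hzero using hrel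
  let E := ∏ r ∈ s.attach, e r.1 r.2
  have hEi : IsIdempotentElem E := by
    show E * E = E
    rw [← Finset.prod_mul_distrib]
    exact Finset.prod_congr rfl fun r _ => he r.1 r.2
  have hEp : E ∉ q.under B := fun h => by
    obtain ⟨r, -, hr⟩ := (Ideal.IsPrime.prod_mem_iff (p := q.under B)).1 h
    exact hep r.1 r.2 hr
  let L := Localization.Away E
  let θ : MvPolynomial (Fin n) B →ₐ[B] L := (Algebra.ofId B L).comp ev
  have hle : RingHom.ker f.toRingHom ≤ RingHom.ker θ.toRingHom := by
    rw [← hs, Ideal.span_le]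
    intro r hr
    show algebraMap B L (ev r) = 0
    have hu : IsUnit (algebraMap B L E) := IsLocalization.Away.algebraMap_isUnit E
    refine hu.mul_right_eq_zero.1 ?_
    obtain ⟨t, ht⟩ : e r hr ∣ E := Finset.dvd_prod_of_mem (fun r : s => e r.1 r.2) (Finset.mem_attach s ⟨r, hr⟩)
    have h0 : E * ev r = 0 := (congrArg (· * ev r) ht).trans (by rw [mul_right_comm, hzero r hr, zero_mul])
    exact (map_mul _ _ _).symm.trans ((congrArg (algebraMap B L) h0).trans (map_zero _))
  let φ : (MvPolynomial (Fin n) B ⧸ RingHom.ker f.toRingHom) →ₐ[B] L :=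
    Ideal.Quotient.liftₐ _ θ fun a ha => hle ha
  refine ⟨E, hEi, hEp, φ.comp (Ideal.quotientKerAlgEquivOfSurjective (f := f) hf).symm.toAlgHom, fun P hP => ?_⟩
  ext x
  obtain ⟨T, rfl⟩ := hf x
  have h1 : (Ideal.quotientKerAlgEquivOfSurjective (f := f) hf).symm (f T) = Ideal.Quotient.mk _ T :=
    (AlgEquiv.symm_apply_eq _).2 rfl
  show φ ((Ideal.quotientKerAlgEquivOfSurjective (f := f) hf).symm (f T)) ∈ P ↔ _
  rw [h1]
  show algebraMap B L (ev T) ∈ P ↔ _
  rw [← Ideal.mem_comap, hP]
  show algebraMap B C (ev T) ∈ q ↔ _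
  exact ⟨fun h => by simpa using q.add_mem (hev T) h, fun h => by simpa using q.sub_mem h (hev T)⟩

end Algebra

/-- A basic clopen of the spectrum, as an étale scheme over it. -/
noncomputable abbrev basic (e : B) : (Spec (CommRingCat.of B)).Etale :=
  haveI : IsOpenImmersion (Spec.map (CommRingCat.ofHom (algebraMap B (Localization.Away e)))) :=
    IsOpenImmersion.of_isLocalization e
  Scheme.Etale.mk (Spec.map (CommRingCat.ofHom (algebraMap B (Localization.Away e))))

/-- Étale schemes have sections through every point over clopen neighbourhoods. -/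
theorem exists_section [IsSepClosed K] (hB : IsSplit K B) (W : (Spec (CommRingCat.of B)).Etale) (w : W.left) :
    ∃ (e : B) (σ : basic e ⟶ W), IsIdempotentElem e ∧ W.hom w ∈ PrimeSpectrum.basicOpen e ∧
      ∀ y : (basic e).left, (basic e).hom y = W.hom w → σ.left y = w := by
  obtain ⟨O, hO, hw, -⟩ := exists_isAffineOpen_mem_and_subset (X := W.left) (x := w) (U := ⊤) trivial
  haveI : AlgebraicGeometry.Etale W.hom := W.prop
  let φ : CommRingCat.of B ⟶ Γ(W.left, O) := Spec.preimage (hO.fromSpec ≫ W.hom)
  have hφ : Spec.map φ = hO.fromSpec ≫ W.hom := Spec.map_preimage _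
  letI := φ.hom.toAlgebra
  haveI : Algebra.Etale B Γ(W.left, O) := by
    have h : φ.hom.Etale := (HasRingHomProperty.Spec_iff (P := @AlgebraicGeometry.Etale)).1 (hφ ▸ inferInstance)
    exact h
  obtain ⟨w', hw'⟩ : w ∈ Set.range hO.fromSpec := hO.range_fromSpec.ge hw
  let q : PrimeSpectrum Γ(W.left, O) := w'
  haveI : q.asIdeal.IsPrime := q.isPrime
  obtain ⟨e, he, hep, ψ, hψ⟩ := exists_hom_etale hB q.asIdeal
  have hpt : (Spec.map φ) w' = W.hom w := by rw [hφ, Scheme.Hom.comp_apply, hw']
  let m : Spec (CommRingCat.of (Localization.Away e)) ⟶ Spec Γ(W.left, O) := Spec.map (CommRingCat.ofHom ψ.toRingHom)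
  have hm : (m ≫ hO.fromSpec) ≫ W.hom = (basic e).hom := by
    rw [Category.assoc, ← hφ, ← Spec.map_comp]
    exact congrArg Spec.map (CommRingCat.hom_ext ψ.comp_algebraMap)
  refine ⟨e, MorphismProperty.Over.homMk (m ≫ hO.fromSpec) hm, he, ?_, fun y hy => ?_⟩
  · rw [← hpt]
    exact hep
  · show (m ≫ hO.fromSpec) y = w
    rw [Scheme.Hom.comp_apply, ← hw']
    refine congrArg hO.fromSpec (PrimeSpectrum.ext ?_)
    let Y : PrimeSpectrum (Localization.Away e) := y
    exact hψ Y.asIdeal (congrArg PrimeSpectrum.asIdeal (hy.trans hpt.symm))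

end Groth.Agent.PointLim24
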