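import Groth.Agent.Lib.PointLim24.SecCalc
import Groth.Agent.Lib.LocConst24.GeomPt

/-!
# Stalks of direct images as sections on the strict localization, on germs
-/

set_option autoImplicit false
set_option linter.style.haveILetI false
set_option linter.unusedSectionVars false
set_option backward.isDefEq.respectTransparency false
set_option backward.isDefEq.respectTransparency.types false

universe u

open CategoryTheory CategoryTheory.Limits AlgebraicGeometry Opposite

namespace Groth.Agent.PointLim24

open Groth.Agent.EtStalk Groth.Agent.StrictLim24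

variable {T S : Scheme.{u}} (g : T ⟶ S) [QuasiCompact g] [QuasiSeparated g] (G : EtCoh.Ab T) (s : S) (R : Type u)
  [CommRing R] [IsLocalRing R] [Algebra (S.presheaf.stalk s) R] [IsLocalHom (algebraMap (S.presheaf.stalk s) R)]
  [Hensel.IsStrictHenselization (S.presheaf.stalk s) R] [HenselianLocalRing R]
  [IsSepClosed (IsLocalRing.ResidueField R)]

/-- The stalk of a direct image as sections, with its values on germs. -/
theorem exists_theta :
    ∃ Θ : (EtCoh.stalk (closedPt R ≫ Hens2.specOf S s R)).obj ((EtCoh.push g).obj G) →+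
        ((EtCoh.pull (pullback.fst g (Hens2.specOf S s R))).obj G).obj.obj
          (op (EtCoh.top (pullback g (Hens2.specOf S s R)))),
      Function.Bijective Θ ∧
        ∀ (V : S.Etale) (v : fib (closedPt R ≫ Hens2.specOf S s R) V) (l : Spec (CommRingCat.of R) ⟶ V.left),
          l ≫ V.hom = Hens2.specOf S s R → closedPt R ≫ l = v.left →
          ∀ (y : pullback g (Hens2.specOf S s R) ⟶ ((EtCoh.bc g).obj V).left)
            (hy : y ≫ ((EtCoh.bc g).obj V).hom = pullback.fst g (Hens2.specOf S s R)),
            y ≫ pullback.fst V.hom g = pullback.snd g (Hens2.specOf S s R) ≫ l →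
          ∀ x : G.obj.obj (op ((EtCoh.bc g).obj V)),
            Θ (germ (closedPt R ≫ Hens2.specOf S s R) ((EtCoh.push g).obj G) v x) =
              sec (pullback.fst g (Hens2.specOf S s R)) G ((EtCoh.bc g).obj V) y hy x := by
  obtain ⟨Sys⟩ := StrictLim24.nonempty_strictSys S s R
  obtain ⟨e, he⟩ := Sys.exists_iso₀ g G
  refine ⟨e.hom.hom, ConcreteCategory.bijective_of_isIso e.hom, fun V v l hl hlv y hy hyl x => ?_⟩
  obtain ⟨j, m, hm⟩ := Sys.exists_stage_map V l hl
  have hv : (Scheme.pointSmallEtale (closedPt R ≫ Hens2.specOf S s R)).fiber.map m (Sys.φ j) = v :=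
    Over.OverMorphism.ext ((Category.assoc _ _ _).trans ((congrArg (closedPt R ≫ ·) hm).trans hlv))
  have hga : germ (closedPt R ≫ Hens2.specOf S s R) ((EtCoh.push g).obj G) v x =
      Sys.ga g G j (((EtCoh.push g).obj G).obj.map m.op x) := by
    rw [← hv]
    exact (germ_map (closedPt R ≫ Hens2.specOf S s R) ((EtCoh.push g).obj G) m (Sys.φ j) x).symm
  have hyy : Sys.yl g j ≫ ((EtCoh.bc g).map m).left = y := by
    refine pullback.hom_ext ?_ ?_
    · refine (Category.assoc _ _ _).trans ?_
      refine (congrArg (Sys.yl g j ≫ ·) (EtCoh.isPullback_bc_map g m).w).trans ?_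
      refine (Category.assoc _ _ _).symm.trans ?_
      refine (congrArg (· ≫ m.left) (Sys.yl_fst g j)).trans ?_
      exact (Category.assoc _ _ _).trans ((congrArg (_ ≫ ·) hm).trans hyl.symm)
    · refine (Category.assoc _ _ _).trans ?_
      refine (congrArg (Sys.yl g j ≫ ·) (MorphismProperty.Over.w ((EtCoh.bc g).map m))).trans ?_
      exact (Sys.yl_hom g j).trans hy.symm
  show e.hom _ = _
  rw [hga]
  refine (ConcreteCategory.congr_hom (he j) (((EtCoh.push g).obj G).obj.map m.op x)).trans ?_
  exact sec_map (pullback.fst g (Hens2.specOf S s R)) G ((EtCoh.bc g).map m) (Sys.yl g j) (Sys.yl_hom g j) y hy hyy x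

end Groth.Agent.PointLim24
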